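import Groth.Agent.EtShriekLib.Supp
import Groth.Agent.EtFound.PushOutside
import Groth.Agent.EtFound.FiniteStalk

/-! sections supported on a closed set seen by an etale neighbourhood -/

universe u

open CategoryTheory CategoryTheory.Limits AlgebraicGeometry Opposite

namespace Groth.Agent.EtShriekLib

set_option backward.isDefEq.respectTransparency.types false

variable {X : Scheme.{u}}

/-- geometric points over `Z` lift uniquely along `φ` -/
def UniqueLifts {U U' : X.Etale} (φ : U' ⟶ U) (Z : Set U.left) : Prop :=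
  ∀ (Ω : Type u) [Field Ω] [IsAlgClosed Ω] (ξ : Spec (CommRingCat.of Ω) ⟶ X)
    (z₁ z₂ : (Scheme.pointSmallEtale ξ).fiber.obj U'),
      (Scheme.pointSmallEtale ξ).fiber.map φ z₁ = (Scheme.pointSmallEtale ξ).fiber.map φ z₂ →
        φ.left.base (EtFound.ptOf z₁) ∈ Z → z₁ = z₂

theorem uniqueLifts_of_mono {U U' : X.Etale} (φ : U' ⟶ U) [Mono φ.left] (Z : Set U.left) : UniqueLifts φ Z :=
  fun Ω _ _ ξ z₁ z₂ h _ => CategoryTheory.Over.OverMorphism.ext
    ((cancel_mono φ.left).1 (congrArg (fun m => m.left) h :))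

theorem point_ext {P Q : Scheme.{u}} (m : P ⟶ Q) {Ω : Type u} [Field Ω] (a b : Spec (CommRingCat.of Ω) ⟶ P)
    (hp : a.base (default : Spec (CommRingCat.of Ω)) = b.base (default : Spec (CommRingCat.of Ω)))
    (hr : Function.Bijective (m.residueFieldMap (a.base (default : Spec (CommRingCat.of Ω)))))
    (h : a ≫ m = b ≫ m) : a = b := by
  obtain ⟨⟨p, c⟩, rfl⟩ := (Scheme.SpecToEquivOfField Ω P).symm.surjective a
  obtain ⟨⟨q, d⟩, rfl⟩ := (Scheme.SpecToEquivOfField Ω P).symm.surjective b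
  have e : ∀ (p : P) (c : P.residueField p ⟶ CommRingCat.of Ω),
      ((Scheme.SpecToEquivOfField Ω P).symm ⟨p, c⟩).base (default : Spec (CommRingCat.of Ω)) = p :=
    fun p c => (Scheme.Hom.comp_apply _ _ _).trans (Scheme.fromSpecResidueField_apply p _)
  rw [e, e] at hp
  subst hp
  rw [e] at hr
  have : IsIso (m.residueFieldMap p) := (ConcreteCategory.isIso_iff_bijective _).2 hr
  simp only [Scheme.SpecToEquivOfField_symm_apply, Category.assoc,
    ← Scheme.Hom.SpecMap_residueFieldMap_fromSpecResidueField] at h ⊢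
  rw [← Category.assoc, ← Category.assoc, cancel_mono, cancel_mono] at h
  rw [h]

theorem uniqueLifts_of_bijOn {U U' : X.Etale} (φ : U' ⟶ U) (Z : Set U.left)
    (hbij : Set.InjOn φ.left.base (φ.left.base ⁻¹' Z))
    (hres : ∀ x ∈ φ.left.base ⁻¹' Z, Function.Bijective (φ.left.residueFieldMap x)) :
    UniqueLifts φ Z := by
  intro Ω _ _ ξ z₁ z₂ h hZ
  have e : φ.left.base (EtFound.ptOf z₁) = φ.left.base (EtFound.ptOf z₂) :=
    (EtFound.ptOf_map φ z₁).symm.trans ((congrArg EtFound.ptOf h).trans (EtFound.ptOf_map φ z₂))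
  exact CategoryTheory.Over.OverMorphism.ext (point_ext φ.left _ _
    (hbij hZ (Set.mem_preimage.2 (e ▸ hZ)) e) (hres _ hZ) (congrArg (fun m => m.left) h :))

theorem compat_aux {F : EtCoh.Ab X} {U U' T : X.Etale} (φ : U' ⟶ U) {Z : Set U.left} (hu : UniqueLifts φ Z)
    (s' : EtCoh.sect F U') (hs' : EtShriek.sectSupp F U' s' ⊆ φ.left.base ⁻¹' Z) (a b : T ⟶ U')
    (e : a ≫ φ = b ≫ φ) : F.obj.map a.op s' = F.obj.map b.op s' := by
  refine sub_eq_zero.1 (eq_zero_of_supp_eq_empty (Set.eq_empty_of_forall_notMem fun x hx => ?_))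
  obtain ⟨Ω, _, _, ξ, z, rfl⟩ := EtFound.exists_algClosed_point T x
  refine (mem_supp_iff z _).1 hx ?_
  rw [map_sub, (Scheme.pointSmallEtale ξ).toPresheafFiber_w_apply a z F.obj s',
    (Scheme.pointSmallEtale ξ).toPresheafFiber_w_apply b z F.obj s', sub_eq_zero]
  have hz : (Scheme.pointSmallEtale ξ).fiber.map φ ((Scheme.pointSmallEtale ξ).fiber.map a z) =
      (Scheme.pointSmallEtale ξ).fiber.map φ ((Scheme.pointSmallEtale ξ).fiber.map b z) := by
    have := congrArg (fun m => (Scheme.pointSmallEtale ξ).fiber.map m z) e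
    simpa only [Functor.map_comp, ConcreteCategory.comp_apply] using this
  by_cases h1 : φ.left.base (EtFound.ptOf ((Scheme.pointSmallEtale ξ).fiber.map a z)) ∈ Z
  · rw [hu Ω ξ _ _ hz h1]
  · have h2 : φ.left.base (EtFound.ptOf ((Scheme.pointSmallEtale ξ).fiber.map b z)) ∉ Z := fun h3 => h1 (by
      rw [← EtFound.ptOf_map φ, hz, EtFound.ptOf_map φ]
      exact h3)
    by_contra hne
    rcases not_and_or.1 (fun hh : _ = 0 ∧ _ = 0 => hne (hh.1.trans hh.2.symm)) with h0 | h0
    · exact h1 (hs' ((mem_supp_iff _ s').2 h0))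
    · exact h2 (hs' ((mem_supp_iff _ s').2 h0))

theorem map_germ_zero_of_supp {F : EtCoh.Ab X} {U : X.Etale} (s : EtCoh.sect F U) {Ω : Type u} [Field Ω]
    [IsSepClosed Ω] {ξ : Spec (CommRingCat.of Ω) ⟶ X} (z : (Scheme.pointSmallEtale ξ).fiber.obj U)
    (h : EtFound.ptOf z ∉ EtShriek.sectSupp F U s) :
    (Scheme.pointSmallEtale ξ).toPresheafFiber U z F.obj s = 0 := by
  by_contra h0
  exact h ((mem_supp_iff z s).2 h0)

/-- sections agree as soon as all germs do -/
theorem eq_of_germs {F : EtCoh.Ab X} {U : X.Etale} {s t : EtCoh.sect F U}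
    (h : ∀ (Ω : Type u) [Field Ω] [IsAlgClosed Ω] (ξ : Spec (CommRingCat.of Ω) ⟶ X)
      (z : (Scheme.pointSmallEtale ξ).fiber.obj U),
        (Scheme.pointSmallEtale ξ).toPresheafFiber U z F.obj s =
          (Scheme.pointSmallEtale ξ).toPresheafFiber U z F.obj t) : s = t := by
  refine sub_eq_zero.1 (eq_zero_of_supp_eq_empty (Set.eq_empty_of_forall_notMem fun x hx => ?_))
  obtain ⟨Ω, _, _, ξ, z, rfl⟩ := EtFound.exists_algClosed_point U x
  refine (mem_supp_iff z _).1 hx ?_
  rw [map_sub, h Ω ξ z, sub_self]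

variable {F : EtCoh.Ab X} {U U' : X.Etale} (φ : U' ⟶ U) {Z : Set U.left}

theorem glue_unique (hsurj : Z ⊆ Set.range φ.left.base) {s t : EtCoh.sect F U}
    (hs : EtShriek.sectSupp F U s ⊆ Z) (ht : EtShriek.sectSupp F U t ⊆ Z)
    (h : F.obj.map φ.op s = F.obj.map φ.op t) : s = t := by
  refine sub_eq_zero.1 (eq_zero_of_supp_eq_empty (Set.eq_empty_of_forall_notMem fun x hx => ?_))
  obtain ⟨p, rfl⟩ := hsurj ((supp_sub s t).trans (Set.union_subset hs ht) hx)
  exact notMem_supp_of φ (by rw [map_sub, h, sub_self]) p hx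

theorem glue_exists (hZ : IsClosed Z) (hsurj : Z ⊆ Set.range φ.left.base) (hu : UniqueLifts φ Z)
    (s' : EtCoh.sect F U') (hs' : EtShriek.sectSupp F U' s' ⊆ φ.left.base ⁻¹' Z) :
    ∃ s : EtCoh.sect F U, EtShriek.sectSupp F U s ⊆ Z ∧ F.obj.map φ.op s = s' := by
  let O : U.left.Opens := ⟨Zᶜ, hZ.isOpen_compl⟩
  let W : Option PUnit.{1} → X.Etale := fun i => i.elim (EtFound.restrictEtale U O) fun _ => U'
  let π : ∀ i, W i ⟶ U := fun i => match i with
    | none => EtFound.restrictEtaleHom U O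
    | some _ => φ
  let x : ∀ i, EtCoh.sect F (W i) := fun i => match i with
    | none => 0
    | some _ => s'
  have hcov : Sieve.generate (Presieve.ofArrows W π) ∈ X.smallEtaleTopology U := by
    refine (EtFound.mem_topology_iff _).2 fun y => ?_
    by_cases hy : y ∈ Z
    · obtain ⟨p, hp⟩ := hsurj hy
      exact ⟨W (some PUnit.unit), π (some PUnit.unit), p,
        Sieve.le_generate _ _ _ (Presieve.ofArrows.mk (some PUnit.unit)), hp⟩
    · exact ⟨W none, π none, ⟨y, hy⟩, Sieve.le_generate _ _ _ (Presieve.ofArrows.mk none), rfl⟩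
  have hP : (Presieve.ofArrows W π).IsSheafFor (F.obj ⋙ forget AddCommGrpCat.{u + 1}) :=
    (Presieve.isSheafFor_iff_generate _).2 (((isSheaf_iff_isSheaf_of_type _ _).1
      ((sheafCompose X.smallEtaleTopology (forget AddCommGrpCat.{u + 1})).obj F).property) _ hcov)
  have hzero : ∀ (T : X.Etale) (a : T ⟶ U') (b : T ⟶ EtFound.restrictEtale U O),
      a ≫ φ = b ≫ EtFound.restrictEtaleHom U O → F.obj.map a.op s' = 0 := fun T a b e => by
    refine eq_zero_of_supp_eq_empty (Set.eq_empty_of_forall_notMem fun t ht => ?_)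
    rw [supp_map] at ht
    have h1 : φ.left.base (a.left.base t) ∈ Z := hs' ht
    have h2 : φ.left.base (a.left.base t) = (O.ι).base (b.left.base t) :=
      congrArg (fun m : T ⟶ U => m.left.base t) e
    rw [h2] at h1
    exact (b.left.base t).2 h1
  have hcompat : Presieve.Arrows.Compatible (F.obj ⋙ forget AddCommGrpCat.{u + 1}) π x := by
    rintro (_ | _) (_ | _) T a b e
    · exact (map_zero (F.obj.map a.op).hom).trans (map_zero (F.obj.map b.op).hom).symm
    · exact (map_zero (F.obj.map a.op).hom).trans (hzero T b a e.symm).symm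
    · exact (hzero T a b e).trans (map_zero (F.obj.map b.op).hom).symm
    · exact compat_aux φ hu s' hs' a b e
  obtain ⟨s, hs, -⟩ := (Presieve.isSheafFor_arrows_iff _ _).1 hP x hcompat
  refine ⟨s, fun y hy => ?_, hs (some PUnit.unit)⟩
  by_contra hn
  exact notMem_supp_of (EtFound.restrictEtaleHom U O) (hs none) ⟨y, hn⟩ hy

end Groth.Agent.EtShriekLib
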