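import Groth.Agent.EtShriekLib.Sh
import Groth.Agent.EtShriekLib.Glue
import Groth.Agent.EtFound.FiniteStalk
import Groth.Agent.EtFound.FieldExt
import Mathlib.AlgebraicGeometry.ZariskisMainTheorem

/-! stalks of sections with proper support along quasi-finite morphisms -/

universe u

open CategoryTheory CategoryTheory.Limits AlgebraicGeometry Opposite

namespace Groth.Agent.EtShriekLib

set_option backward.isDefEq.respectTransparency.types false

variable {X Y : Scheme.{u}}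

/-- isomorphisms can be checked at geometric points over algebraically closed fields -/
theorem isIso_iff_algClosed {F G : EtCoh.Ab X} (a : F ⟶ G)
    (h : ∀ (Ω : Type u) [Field Ω] [IsAlgClosed Ω] (ξ : Spec (CommRingCat.of Ω) ⟶ X),
      IsIso ((EtCoh.stalk ξ).map a)) : IsIso a := by
  refine (EtFound.isIso_iff_stalks a).2 fun k _ _ ξ => ?_
  let l : Spec (CommRingCat.of (AlgebraicClosure k)) ⟶ Spec (CommRingCat.of k) :=
    Spec.map (CommRingCat.ofHom (algebraMap k (AlgebraicClosure k)))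
  have : IsIso ((EtCoh.stalk (l ≫ ξ)).map a) := h _ _
  exact (NatIso.isIso_map_iff (EtFound.stalkExtIso AddCommGrpCat.{u + 1} ξ l) a).2 this

/-- etale morphisms are locally quasi-finite -/
theorem locallyQuasiFinite_of_etale {P Q : Scheme.{u}} (g : P ⟶ Q) [AlgebraicGeometry.Etale g] :
    LocallyQuasiFinite g := by
  rw [HasRingHomProperty.iff_appLE (P := @LocallyQuasiFinite)]
  intro U₀ W₀ e'
  have := HasRingHomProperty.appLE @AlgebraicGeometry.Etale g inferInstance U₀ W₀ e'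
  algebraize [(g.appLE U₀.1 W₀.1 e').hom]
  exact (inferInstance : Algebra.QuasiFinite Γ(Q, U₀.1) Γ(P, W₀.1))

variable (f : X ⟶ Y) [LocallyOfFiniteType f] {Ω : Type u} [Field Ω] [IsSepClosed Ω]
  {η : Spec (CommRingCat.of Ω) ⟶ Y} {ξ : Spec (CommRingCat.of Ω) ⟶ X}

/-- the component of the stalk of `f_!` at a point above -/
noncomputable def piStalk (hξ : ξ ≫ f = η) (F : EtCoh.Ab X) :
    (EtCoh.stalk η).obj ((sh f).obj F) ⟶ (EtCoh.stalk ξ).obj F :=
  (EtCoh.stalk η).map ((shToPush f).app F) ≫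
    (EtFound.pushStalkAt (A := AddCommGrpCat.{u + 1}) f hξ).app F

theorem piStalk_germ (hξ : ξ ≫ f = η) (F : EtCoh.Ab X) {V : Y.Etale}
    (v : (Scheme.pointSmallEtale η).fiber.obj V) (s : EtCoh.sect ((sh f).obj F) V) :
    piStalk f hξ F ((Scheme.pointSmallEtale η).toPresheafFiber V v ((sh f).obj F).obj s) =
      (Scheme.pointSmallEtale ξ).toPresheafFiber ((EtCoh.bc f).obj V) (EtFound.liftPt f hξ v) F.obj (val s) := by
  refine (ConcreteCategory.comp_apply _ _ _).trans ?_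
  refine (congrArg ((EtFound.pushStalkAt (A := AddCommGrpCat.{u + 1}) f hξ).app F)
    ((Scheme.pointSmallEtale η).toPresheafFiber_naturality_apply ((shToPush f).app F).hom V v s)).trans ?_
  exact EtFound.pushStalkAt_germ_apply f hξ F v (val s)

theorem piStalk_naturality (hξ : ξ ≫ f = η) {F G : EtCoh.Ab X} (a : F ⟶ G) :
    piStalk f hξ F ≫ (EtCoh.stalk ξ).map a = (EtCoh.stalk η).map ((sh f).map a) ≫ piStalk f hξ G := by
  let a₀ : (EtCoh.stalk η).obj ((EtCoh.push f).obj F) ⟶ (EtCoh.stalk η).obj ((EtCoh.push f).obj G) :=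
    (EtCoh.stalk η).map ((EtCoh.push f).map a)
  refine (Category.assoc _ _ _).trans ?_
  refine (congrArg (_ ≫ ·) ((EtFound.pushStalkAt (A := AddCommGrpCat.{u + 1}) f hξ).naturality a).symm).trans ?_
  refine (Category.assoc _ _ _).symm.trans ?_
  refine (congrArg (· ≫ _) (((EtCoh.stalk η).map_comp _ _).symm.trans ((congrArg (EtCoh.stalk η).map
    ((shToPush f).naturality a).symm).trans ((EtCoh.stalk η).map_comp _ _)))).trans ?_
  exact Category.assoc _ _ _

variable [LocallyQuasiFinite f]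

/-- the support of a section with proper support is finite over the base -/
theorem exists_finite_support (F : EtCoh.Ab X) {V : Y.Etale} (s : EtCoh.sect ((sh f).obj F) V) :
    ∃ (T : Scheme.{u}) (i : T ⟶ ((EtCoh.bc f).obj V).left), IsClosedImmersion i ∧
      IsFinite (i ≫ EtShriek.prV f V) ∧ Set.range i.base = EtShriek.sectSupp F _ (val s) := by
  obtain ⟨hC, hP⟩ := isProperOver_val s
  let i := (Scheme.IdealSheafData.vanishingIdeal ⟨_, hC⟩).subschemeι
  have : LocallyQuasiFinite (EtShriek.prV f V) :=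
    MorphismProperty.pullback_fst (P := @LocallyQuasiFinite) V.hom f ‹_›
  have : IsProper (i ≫ EtShriek.prV f V) := hP
  exact ⟨_, i, inferInstance, IsFinite.of_isProper_of_locallyQuasiFinite _, QCoh.range_vanishing hC⟩

theorem exists_germ_rep (F : EtCoh.Ab X) (p : (EtCoh.stalk η).obj ((sh f).obj F)) :
    ∃ (V : Y.Etale) (v : (Scheme.pointSmallEtale η).fiber.obj V) (s : EtCoh.sect ((sh f).obj F) V),
      (Scheme.pointSmallEtale η).toPresheafFiber V v ((sh f).obj F).obj s = p :=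
  (Scheme.pointSmallEtale η).toPresheafFiber_jointly_surjective p

variable {Ω : Type u} [Field Ω] [IsAlgClosed Ω] {η : Spec (CommRingCat.of Ω) ⟶ Y}

theorem piStalk_injective (F : EtCoh.Ab X) {p : (EtCoh.stalk η).obj ((sh f).obj F)}
    (h : ∀ (ξ : Spec (CommRingCat.of Ω) ⟶ X) (hξ : ξ ≫ f = η), piStalk f hξ F p = 0) : p = 0 := by
  obtain ⟨V, v, s, rfl⟩ := exists_germ_rep f F p
  by_contra h0
  have hv := (mem_supp_iff v s).2 h0
  rw [supp_sh] at hv
  obtain ⟨x, hx, hxv⟩ := hv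
  obtain ⟨T, i, _, _, hr⟩ := exists_finite_support f F s
  obtain ⟨t, rfl⟩ : x ∈ Set.range i.base := hr ▸ hx
  obtain ⟨l, hl, hlt⟩ := EtFound.exists_fac_of_integral (i ≫ EtShriek.prV f V)
    (v.left : Spec (CommRingCat.of Ω) ⟶ V.left) t ((Scheme.Hom.comp_apply _ _ _).trans hxv)
  let ξ : Spec (CommRingCat.of Ω) ⟶ X := (l ≫ i) ≫ pullback.snd V.hom f
  have hl' : (l ≫ i) ≫ EtShriek.prV f V = v.left := (Category.assoc _ _ _).trans hl
  have hξ : ξ ≫ f = η := by
    refine (Category.assoc _ _ _).trans ((congrArg ((l ≫ i) ≫ ·) pullback.condition.symm).trans ?_)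
    exact (Category.assoc _ _ _).symm.trans ((congrArg (· ≫ V.hom) hl').trans (CategoryTheory.Over.w v))
  have hpt : EtFound.ptOf (EtFound.liftPt f hξ v) = i.base t := by
    have e : ((EtFound.liftPt f hξ v).left : Spec (CommRingCat.of Ω) ⟶ ((EtCoh.bc f).obj V).left) = l ≫ i :=
      pullback.hom_ext ((pullback.lift_fst _ _ _).trans hl'.symm) (pullback.lift_snd _ _ _)
    exact (congrArg (fun k : Spec (CommRingCat.of Ω) ⟶ ((EtCoh.bc f).obj V).left =>
      k.base (default : Spec (CommRingCat.of Ω))) e).trans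
      ((Scheme.Hom.comp_apply _ _ _).trans (congrArg i.base hlt))
  have := h ξ hξ
  rw [piStalk_germ] at this
  exact ((mem_supp_iff _ (val s)).1 (hpt ▸ hx)) this

theorem piStalk_finite (F : EtCoh.Ab X) (p : (EtCoh.stalk η).obj ((sh f).obj F)) :
    {ξ : {ξ : Spec (CommRingCat.of Ω) ⟶ X // ξ ≫ f = η} | piStalk f ξ.2 F p ≠ 0}.Finite := by
  obtain ⟨V, v, s, rfl⟩ := exists_germ_rep f F p
  obtain ⟨T, i, _, _, hr⟩ := exists_finite_support f F s
  let q : Spec (CommRingCat.of Ω) ⟶ V.left := v.left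
  have := EtFound.finite_points (i ≫ EtShriek.prV f V) q
  refine (Set.finite_range (fun l : {l : Spec (CommRingCat.of Ω) ⟶ T // l ≫ i ≫ EtShriek.prV f V = q} =>
    (l.1 ≫ i) ≫ pullback.snd V.hom f)).preimage Subtype.val_injective.injOn |>.subset fun ξ hne => ?_
  simp only [Set.mem_setOf_eq, piStalk_germ] at hne
  obtain ⟨t, ht⟩ : EtFound.ptOf (EtFound.liftPt f ξ.2 v) ∈ Set.range i.base :=
    hr ▸ (mem_supp_iff _ (val s)).2 hne
  obtain ⟨l, hl, -⟩ := EtFound.exists_fac_of_integral i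
    ((EtFound.liftPt f ξ.2 v).left : Spec (CommRingCat.of Ω) ⟶ ((EtCoh.bc f).obj V).left) t ht
  refine ⟨⟨l, ?_⟩, ?_⟩
  · exact (Category.assoc _ _ _).symm.trans ((congrArg (· ≫ EtShriek.prV f V) hl).trans (pullback.lift_fst _ _ _))
  · exact (congrArg (· ≫ pullback.snd V.hom f) hl).trans (pullback.lift_snd _ _ _)

/-- surjectivity criterion for maps into the stalk of `f_!` -/
theorem piStalk_surjective (F : EtCoh.Ab X) {A : Type*} [AddCommGroup A]
    (φ : A →+ (EtCoh.stalk η).obj ((sh f).obj F))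
    (h : ∀ (ξ : Spec (CommRingCat.of Ω) ⟶ X) (hξ : ξ ≫ f = η) (c : (EtCoh.stalk ξ).obj F),
      ∃ a, piStalk f hξ F (φ a) = c ∧
        ∀ (ξ' : Spec (CommRingCat.of Ω) ⟶ X) (hξ' : ξ' ≫ f = η), ξ' ≠ ξ → piStalk f hξ' F (φ a) = 0) :
    Function.Surjective φ := by
  intro p
  classical
  choose a ha ha' using fun ξ : {ξ : Spec (CommRingCat.of Ω) ⟶ X // ξ ≫ f = η} => h ξ.1 ξ.2 (piStalk f ξ.2 F p)
  let T := (piStalk_finite f F p).toFinset
  refine ⟨∑ ξ ∈ T, a ξ, sub_eq_zero.1 (piStalk_injective f F fun ξ hξ => ?_)⟩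
  rw [map_sub, map_sum, map_sum, sub_eq_zero]
  refine (Finset.sum_eq_single (⟨ξ, hξ⟩ : {ξ : Spec (CommRingCat.of Ω) ⟶ X // ξ ≫ f = η})
    (fun b _ hb => ha' b ξ hξ fun e => hb (Subtype.ext e.symm)) fun hT => ?_).trans (ha ⟨ξ, hξ⟩)
  refine (ha ⟨ξ, hξ⟩).trans ?_
  by_contra h0
  exact hT ((piStalk_finite f F p).mem_toFinset.2 h0)

end Groth.Agent.EtShriekLib
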