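import Groth.Agent.EtShriekLib.Exact

/-! `f_!` commutes with direct sums -/

universe u

open CategoryTheory CategoryTheory.Limits AlgebraicGeometry Opposite

namespace Groth.Agent.EtShriekLib

set_option backward.isDefEq.respectTransparency.types false

/-- components separating the elements of a coproduct of abelian groups -/
theorem eq_zero_of_components' {ι : Type (u + 1)} {A : ι → AddCommGrpCat.{u + 1}} {c : Cofan A} (hc : IsColimit c)
    (τ : ∀ i, c.pt ⟶ A i) (h : ∀ i, c.inj i ≫ τ i = 𝟙 _) (h' : ∀ i j, i ≠ j → c.inj i ≫ τ j = 0)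
    {a : c.pt} (ha : ∀ i, τ i a = 0) : a = 0 := by
  classical
  let σ : c.pt ⟶ AddCommGrpCat.of (DirectSum ι fun i => ↥(A i)) :=
    Cofan.IsColimit.desc hc fun i => AddCommGrpCat.ofHom (DirectSum.of (fun i => ↥(A i)) i)
  let ρ : AddCommGrpCat.of (DirectSum ι fun i => ↥(A i)) ⟶ c.pt :=
    AddCommGrpCat.ofHom (DirectSum.toAddMonoid fun i => (c.inj i).hom)
  have hσρ : σ ≫ ρ = 𝟙 _ := Cofan.IsColimit.hom_ext hc _ _ fun i => by
    rw [← Category.assoc, Cofan.IsColimit.fac, Category.comp_id]
    ext x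
    exact DirectSum.toAddMonoid_of (β := fun i => ↥(A i)) (fun i => (c.inj i).hom) i x
  have hτ : ∀ i, τ i = σ ≫ AddCommGrpCat.ofHom (DFinsupp.evalAddMonoidHom (β := fun i => ↥(A i)) i) := fun i =>
    Cofan.IsColimit.hom_ext hc _ _ fun j => by
      rw [← Category.assoc, Cofan.IsColimit.fac]
      by_cases hij : j = i
      · subst hij
        rw [h]
        ext x
        exact (DirectSum.of_eq_same (β := fun i => ↥(A i)) j x).symm
      · rw [h' j i hij]
        ext x
        exact (DirectSum.of_eq_of_ne (β := fun i => ↥(A i)) j i x (Ne.symm hij)).symm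
  have h0 : σ a = 0 := by
    refine DFinsupp.ext fun i => ?_
    have := ha i
    rw [hτ i] at this
    exact this
  rw [← ConcreteCategory.id_apply (C := AddCommGrpCat.{u + 1}) a, ← hσρ, ConcreteCategory.comp_apply, h0, map_zero]

theorem exists_finset_eq_sum {ι : Type (u + 1)} {A : ι → AddCommGrpCat.{u + 1}} {c : Cofan A} (hc : IsColimit c)
    (τ : ∀ i, c.pt ⟶ A i) (h : ∀ i, c.inj i ≫ τ i = 𝟙 _) (h' : ∀ i j, i ≠ j → c.inj i ≫ τ j = 0) (a : c.pt) :
    ∃ I : Finset ι, ∀ J : Finset ι, I ⊆ J → a = ∑ i ∈ J, c.inj i (τ i a) := by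
  classical
  let σ : c.pt ⟶ AddCommGrpCat.of (DirectSum ι fun i => ↥(A i)) :=
    Cofan.IsColimit.desc hc fun i => AddCommGrpCat.ofHom (DirectSum.of (fun i => ↥(A i)) i)
  have hτ : ∀ i, τ i = σ ≫ AddCommGrpCat.ofHom (DFinsupp.evalAddMonoidHom (β := fun i => ↥(A i)) i) := fun i =>
    Cofan.IsColimit.hom_ext hc _ _ fun j => by
      rw [← Category.assoc, Cofan.IsColimit.fac]
      by_cases hij : j = i
      · subst hij
        rw [h]
        ext x
        exact (DirectSum.of_eq_same (β := fun i => ↥(A i)) j x).symm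
      · rw [h' j i hij]
        ext x
        exact (DirectSum.of_eq_of_ne (β := fun i => ↥(A i)) j i x (Ne.symm hij)).symm
  refine ⟨DFinsupp.support (σ a), fun J hJ => sub_eq_zero.1 (eq_zero_of_components' hc τ h h' fun j => ?_)⟩
  rw [map_sub, map_sum, sub_eq_zero]
  by_cases hj : j ∈ J
  · exact ((Finset.sum_eq_single_of_mem j hj fun i _ hij => ConcreteCategory.congr_hom (h' i j hij) (τ i a)).trans
      (ConcreteCategory.congr_hom (h j) (τ j a))).symm
  · refine Eq.trans ?_ (Finset.sum_eq_zero fun i hi =>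
      ConcreteCategory.congr_hom (h' i j fun e => hj (e ▸ hi :)) (τ i a)).symm
    rw [hτ j]
    by_contra h0
    exact hj (hJ (DFinsupp.mem_support_iff.2 h0))

/-- germs, valued in the stalk -/
noncomputable def germHom {X : Scheme.{u}} (G : EtCoh.Ab X) {U : X.Etale} {Ω : Type u} [Field Ω] [IsSepClosed Ω]
    {ξ : Spec (CommRingCat.of Ω) ⟶ X} (z : (Scheme.pointSmallEtale ξ).fiber.obj U) :
    EtCoh.sect G U →+ (EtCoh.stalk ξ).obj G :=
  ((Scheme.pointSmallEtale ξ).toPresheafFiber U z G.obj).hom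

theorem germHom_app {X : Scheme.{u}} {G H : EtCoh.Ab X} (a : G ⟶ H) {U : X.Etale} {Ω : Type u} [Field Ω]
    [IsSepClosed Ω] {ξ : Spec (CommRingCat.of Ω) ⟶ X} (z : (Scheme.pointSmallEtale ξ).fiber.obj U)
    (s : EtCoh.sect G U) : germHom H z (a.hom.app (op U) s) = (EtCoh.stalk ξ).map a (germHom G z s) :=
  ((Scheme.pointSmallEtale ξ).toPresheafFiber_naturality_apply a.hom U z s).symm

theorem mem_supp_germHom {X : Scheme.{u}} {G : EtCoh.Ab X} {U : X.Etale} {Ω : Type u} [Field Ω] [IsSepClosed Ω]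
    {ξ : Spec (CommRingCat.of Ω) ⟶ X} (z : (Scheme.pointSmallEtale ξ).fiber.obj U) (s : EtCoh.sect G U) :
    EtFound.ptOf z ∈ EtShriek.sectSupp G U s ↔ germHom G z s ≠ 0 :=
  mem_supp_iff z s

variable {X Y : Scheme.{u}} (f : X ⟶ Y) [LocallyOfFiniteType f] {ι : Type (u + 1)} (F : ι → EtCoh.Ab X)
  {c : Cofan F} (hc : IsColimit c)

open Classical in
/-- projections of a direct sum -/
noncomputable def proj (i : ι) : c.pt ⟶ F i :=
  Cofan.IsColimit.desc hc fun j => if h : j = i then eqToHom (congrArg F h) else 0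

theorem inj_proj (i : ι) : c.inj i ≫ proj F hc i = 𝟙 _ := by
  simp [proj]

theorem inj_proj_ne (i j : ι) (h : i ≠ j) : c.inj i ≫ proj F hc j = 0 := by
  simp [proj, h]

include hc in
theorem stalk_eq_sum {Ω : Type u} [Field Ω] [IsSepClosed Ω] (ξ : Spec (CommRingCat.of Ω) ⟶ X)
    (a : (EtCoh.stalk ξ).obj c.pt) :
    ∃ I : Finset ι, ∀ J : Finset ι, I ⊆ J →
      a = ∑ i ∈ J, (EtCoh.stalk ξ).map (c.inj i) ((EtCoh.stalk ξ).map (proj F hc i) a) := by
  have : PreservesColimitsOfSize.{u + 1, u + 1} (EtCoh.stalk ξ) :=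
    (Scheme.pointSmallEtale ξ).skyscraperSheafAdjunction.leftAdjoint_preservesColimits
  let c' : Cofan fun i => (EtCoh.stalk ξ).obj (F i) :=
    Cofan.mk ((EtCoh.stalk ξ).obj c.pt) fun i => (EtCoh.stalk ξ).map (c.inj i)
  exact exists_finset_eq_sum (c := c') (isColimitCofanMkObjOfIsColimit (EtCoh.stalk ξ) F _ hc)
    (fun i => (EtCoh.stalk ξ).map (proj F hc i))
    (fun i => ((EtCoh.stalk ξ).map_comp _ _).symm.trans ((congrArg _ (inj_proj F hc i)).trans ((EtCoh.stalk ξ).map_id _)))
    (fun i j h => ((EtCoh.stalk ξ).map_comp _ _).symm.trans ((congrArg _ (inj_proj_ne F hc i j h)).trans (Functor.map_zero _ _ _))) a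

/-- the part of a section outside finitely many summands -/
noncomputable def rest {U : X.Etale} (t : EtCoh.sect c.pt U) (I : Finset ι) : EtCoh.sect c.pt U :=
  t - ∑ i ∈ I, (proj F hc i ≫ c.inj i).hom.app (op U) t

include hc in
theorem exists_rest_eq_zero {U : X.Etale} (t : EtCoh.sect c.pt U)
    (hZ : IsCompact (EtShriek.sectSupp c.pt U t)) : ∃ I : Finset ι, rest F hc t I = 0 := by
  classical
  have germ_rest : ∀ {Ω : Type u} [Field Ω] [IsSepClosed Ω] {ξ : Spec (CommRingCat.of Ω) ⟶ X}
      (z : (Scheme.pointSmallEtale ξ).fiber.obj U) (I : Finset ι),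
      germHom c.pt z (rest F hc t I) = germHom c.pt z t - ∑ i ∈ I, (EtCoh.stalk ξ).map (c.inj i)
          ((EtCoh.stalk ξ).map (proj F hc i) (germHom c.pt z t)) := by
    intro Ω _ _ ξ z I
    refine (map_sub (germHom c.pt z) _ _).trans (congrArg _ ((map_sum (germHom c.pt z) _ _).trans
      (Finset.sum_congr rfl fun i _ => ?_)))
    refine (germHom_app (proj F hc i ≫ c.inj i) z t).trans ?_
    exact ConcreteCategory.congr_hom ((EtCoh.stalk ξ).map_comp (proj F hc i) (c.inj i)) _
  let O : Finset ι → Set U.left := fun I =>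
    {x | ∀ J : Finset ι, I ⊆ J → x ∉ EtShriek.sectSupp c.pt U (rest F hc t J)}
  have hpt : ∀ x : U.left, ∃ (I : Finset ι) (W : Set U.left), IsOpen W ∧ x ∈ W ∧ W ⊆ O I := by
    intro x
    obtain ⟨Ω, _, _, ξ, z, rfl⟩ := EtFound.exists_algClosed_point U x
    obtain ⟨I, hI⟩ := stalk_eq_sum F hc ξ (germHom c.pt z t)
    refine ⟨I, (EtShriek.sectSupp c.pt U (rest F hc t I))ᶜ, (isClosed_supp _).isOpen_compl, fun hz => ?_, ?_⟩
    · refine (mem_supp_germHom z _).1 hz ?_
      rw [germ_rest z I, sub_eq_zero]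
      exact hI I subset_rfl
    · intro y hy J hJ hy'
      obtain ⟨Ω', _, _, ξ', z', rfl⟩ := EtFound.exists_algClosed_point U y
      have h0 : germHom c.pt z' (rest F hc t I) = 0 := by
        by_contra hne
        exact hy ((mem_supp_germHom z' _).2 hne)
      refine (mem_supp_germHom z' _).1 hy' ?_
      rw [germ_rest, sub_eq_zero] at h0 ⊢
      conv_lhs => rw [h0]
      refine (Finset.sum_subset hJ fun i _ hi => ?_)
      refine (congrArg ((EtCoh.stalk ξ').map (c.inj i)) ?_).trans (map_zero ((EtCoh.stalk ξ').map (c.inj i)).hom)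
      conv_lhs => rw [h0]
      rw [map_sum]
      refine Finset.sum_eq_zero fun j hj => ?_
      refine (ConcreteCategory.congr_hom ((EtCoh.stalk ξ').map_comp (c.inj j) (proj F hc i)).symm _).trans ?_
      rw [inj_proj_ne F hc j i fun e => hi (e ▸ hj :), Functor.map_zero]
      rfl
  choose I W hWo hxW hWO using hpt
  obtain ⟨T, hT⟩ := hZ.elim_finite_subcover W hWo fun x _ => Set.mem_iUnion.2 ⟨x, hxW x⟩
  refine ⟨T.biUnion I, eq_zero_of_supp_eq_empty (Set.eq_empty_of_forall_notMem fun y hy => ?_)⟩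
  by_cases hyZ : y ∈ EtShriek.sectSupp c.pt U t
  · obtain ⟨x, hxT, hyx⟩ := Set.mem_iUnion₂.1 (hT hyZ)
    exact hWO x hyx _ (Finset.subset_biUnion_of_mem I hxT) hy
  · refine hyZ ?_
    rcases supp_sub _ _ hy with h | h
    · exact h
    · obtain ⟨Ω, _, _, ξ, z, rfl⟩ := EtFound.exists_algClosed_point U y
      by_contra hn
      refine (mem_supp_germHom z _).1 h ?_
      refine (map_sum (germHom c.pt z) _ _).trans (Finset.sum_eq_zero fun i _ => ?_)
      refine (germHom_app (proj F hc i ≫ c.inj i) z t).trans ?_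
      rw [show germHom c.pt z t = 0 from map_germ_zero_of_supp t z hn]
      exact map_zero ((EtCoh.stalk ξ).map (proj F hc i ≫ c.inj i)).hom

theorem compact_supp {G : EtCoh.Ab X} {V : Y.Etale} [IsAffine V.left] (s : EtCoh.sect ((sh f).obj G) V) :
    IsCompact (EtShriek.sectSupp G _ (val s)) := by
  obtain ⟨hC, hP⟩ := isProperOver_val s
  let i := (Scheme.IdealSheafData.vanishingIdeal ⟨_, hC⟩).subschemeι
  have : IsProper (i ≫ EtShriek.prV f V) := hP
  have : CompactSpace (Scheme.IdealSheafData.vanishingIdeal ⟨_, hC⟩).subscheme :=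
    (quasiCompact_iff_compactSpace (i ≫ EtShriek.prV f V)).1 inferInstance
  exact QCoh.range_vanishing hC ▸ isCompact_range i.continuous

theorem preservesCoproduct : PreservesColimit (Discrete.functor F) (sh f) := by
  classical
  have hc : IsColimit (Cofan.mk (∐ F) (Sigma.ι F)) := coproductIsCoproduct F
  suffices IsIso (sigmaComparison (sh f) F) from PreservesCoproduct.of_iso_comparison (sh f) F
  refine (EtFound.isIso_iff_stalks _).2 fun Ω _ _ η => (ConcreteCategory.isIso_iff_bijective _).2 ⟨?_, ?_⟩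
  · let G : ι → EtCoh.Ab Y := fun i => (sh f).obj (F i)
    have hG : IsColimit (Cofan.mk (∐ G) (Sigma.ι G)) := coproductIsCoproduct G
    have hpr : ∀ i, proj G hG i = sigmaComparison (sh f) F ≫ (sh f).map (proj F hc i) := fun i =>
      Cofan.IsColimit.hom_ext hG _ _ fun j => by
        change Sigma.ι G j ≫ proj G hG i = Sigma.ι G j ≫ _
        rw [ι_comp_sigmaComparison_assoc, ← Functor.map_comp]
        by_cases h : j = i
        · subst h
          exact (inj_proj G hG j).trans (((congrArg (sh f).map (inj_proj F hc j)).trans ((sh f).map_id _)).symm)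
        · exact (inj_proj_ne G hG j i h).trans ((congrArg (sh f).map (inj_proj_ne F hc j i h)).trans (Functor.map_zero _ _ _)).symm
    refine (injective_iff_map_eq_zero ((EtCoh.stalk η).map (sigmaComparison (sh f) F)).hom).2 fun a ha => ?_
    obtain ⟨I, hI⟩ := stalk_eq_sum G hG η a
    rw [hI I subset_rfl]
    refine Finset.sum_eq_zero fun i _ => ?_
    rw [hpr i, Functor.map_comp, ConcreteCategory.comp_apply]
    exact (congrArg (fun b => (EtCoh.stalk η).map _ ((EtCoh.stalk η).map ((sh f).map (proj F hc i)) b)) ha).trans (by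
      rw [map_zero, map_zero])
  · intro p
    obtain ⟨V, v, t, rfl⟩ : ∃ (V : Y.Etale) (v : (Scheme.pointSmallEtale η).fiber.obj V)
        (t : EtCoh.sect ((sh f).obj (∐ F)) V),
        (Scheme.pointSmallEtale η).toPresheafFiber V v ((sh f).obj (∐ F)).obj t = p :=
      (Scheme.pointSmallEtale η).toPresheafFiber_jointly_surjective p
    let vl : Spec (CommRingCat.of Ω) ⟶ V.left := v.left
    obtain ⟨_, ⟨O, hO, rfl⟩, hvO, -⟩ := V.left.isBasis_affineOpens.exists_subset_of_mem_open
      (Set.mem_univ (vl.base (default : Spec (CommRingCat.of Ω)))) isOpen_univ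
    let O' : V.left.Opens := O
    obtain ⟨qv, hqv⟩ := EtFound.exists_lift_open vl O' fun s => by
      rw [Subsingleton.elim (α := Spec (CommRingCat.of Ω)) s default]; exact hvO
    let v' : (Scheme.pointSmallEtale η).fiber.obj (EtFound.restrictEtale V O') := CategoryTheory.Over.homMk qv
      ((Category.assoc _ _ _).symm.trans ((congrArg (· ≫ V.hom) hqv).trans (CategoryTheory.Over.w v)))
    have hv : (Scheme.pointSmallEtale η).fiber.map (EtFound.restrictEtaleHom V O') v' = v :=
      CategoryTheory.Over.OverMorphism.ext hqv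
    have : IsAffine (EtFound.restrictEtale V O').left := hO
    let t' : EtCoh.sect ((sh f).obj (∐ F)) (EtFound.restrictEtale V O') :=
      ((sh f).obj (∐ F)).obj.map (EtFound.restrictEtaleHom V O').op t
    obtain ⟨I, hI⟩ := exists_rest_eq_zero F hc (val t') (compact_supp f t')
    let g : ι → (EtCoh.stalk η).obj (∐ fun i => (sh f).obj (F i)) := fun i =>
      (EtCoh.stalk η).map (Sigma.ι (fun i => (sh f).obj (F i)) i)
        ((EtCoh.stalk η).map ((sh f).map (proj F hc i))
          ((Scheme.pointSmallEtale η).toPresheafFiber _ v' ((sh f).obj (∐ F)).obj t'))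
    refine ⟨∑ i ∈ I, g i, ?_⟩
    rw [map_sum]
    have e : t' = ∑ i ∈ I, ((sh f).map (proj F hc i ≫ Sigma.ι F i)).hom.app (op (EtFound.restrictEtale V O')) t' :=
      val_injective ((sub_eq_zero.1 hI).trans (map_sum (valHom (f := f) _) (fun i =>
        ((sh f).map (proj F hc i ≫ Sigma.ι F i)).hom.app (op (EtFound.restrictEtale V O')) t') I).symm)
    refine Eq.trans (Finset.sum_congr rfl fun i _ => ?_) ((map_sum _ _ _).symm.trans ((congrArg
      ((Scheme.pointSmallEtale η).toPresheafFiber _ v' ((sh f).obj (∐ F)).obj) e.symm).trans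
        (((Scheme.pointSmallEtale η).toPresheafFiber_w_apply (EtFound.restrictEtaleHom V O') v'
          ((sh f).obj (∐ F)).obj t).trans (by rw [hv]))))
    simp only [g]
    rw [← ConcreteCategory.comp_apply, ← ConcreteCategory.comp_apply, ← Functor.map_comp, ← Functor.map_comp,
      ι_comp_sigmaComparison, ← Functor.map_comp]
    exact (Scheme.pointSmallEtale η).toPresheafFiber_naturality_apply
      ((sh f).map (proj F hc i ≫ Sigma.ι F i)).hom (EtFound.restrictEtale V O') v' t'

theorem preservesCoproducts (J : Type (u + 1)) : PreservesColimitsOfShape (Discrete J) (sh f) :=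
  have : ∀ F : J → EtCoh.Ab X, PreservesColimit (Discrete.functor F) (sh f) := fun F => preservesCoproduct f F
  preservesColimitsOfShape_of_discrete _

theorem preservesCoproducts_small (J : Type u) : PreservesColimitsOfShape (Discrete J) (sh f) :=
  have := preservesCoproducts f (ULift.{u + 1} J)
  preservesColimitsOfShape_of_equiv (Discrete.equivalence Equiv.ulift) _

theorem sh_isLeftAdjoint [IsSeparated f] [LocallyQuasiFinite f] : (sh f).IsLeftAdjoint := by
  have := sh_preservesFiniteColimits f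
  have : ∀ J : Type (u + 1), PreservesColimitsOfShape (Discrete J) (sh f) := preservesCoproducts f
  have : PreservesColimitsOfSize.{u + 1, u + 1} (sh f) := preservesColimits_of_preservesCoequalizers_and_coproducts _
  obtain ⟨G, hG⟩ : ∃ G : EtCoh.Ab X, IsSeparator G := HasSeparator.hasSeparator
  exact isLeftAdjoint_of_preservesColimits_of_isSeparating
    (P := ObjectProperty.singleton G) hG _

end Groth.Agent.EtShriekLib
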