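import Groth.Agent.EtShriekLib.StalkIso
import Mathlib.Algebra.Homology.ShortComplex.ExactFunctor
import Mathlib.Algebra.Homology.ShortComplex.Ab

/-! exactness of `f_!` -/

universe u

open CategoryTheory CategoryTheory.Limits AlgebraicGeometry Opposite

namespace Groth.Agent.EtShriekLib

set_option backward.isDefEq.respectTransparency.types false

variable {X Y : Scheme.{u}} (f : X ⟶ Y) [LocallyOfFiniteType f]

instance sh_additive : (sh f).Additive where
  map_add {F G a b} := Sheaf.hom_ext (by ext V s; exact val_injective rfl)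

/-- the sections functor -/
noncomputable abbrev sectFun (U : X.Etale) : EtCoh.Ab X ⥤ AddCommGrpCat.{u + 1} :=
  sheafToPresheaf _ _ ⋙ (evaluation X.Etaleᵒᵖ AddCommGrpCat.{u + 1}).obj (op U)

theorem sect_injective_of_mono {F G : EtCoh.Ab X} (a : F ⟶ G) [Mono a] (U : X.Etale) :
    Function.Injective (a.hom.app (op U)) :=
  (AddCommGrpCat.mono_iff_injective _).1 (inferInstance : Mono ((sectFun U).map a))

theorem sect_exact {S : ShortComplex (EtCoh.Ab X)} (hS : S.ShortExact) (U : X.Etale)
    (t : EtCoh.sect S.X₂ U) (ht : S.g.hom.app (op U) t = 0) :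
    ∃ s : EtCoh.sect S.X₁ U, S.f.hom.app (op U) s = t := by
  have := hS.mono_f
  have h := KernelFork.mapIsLimit _ hS.fIsKernel (sectFun U)
  have : (S.map (sectFun U)).Exact := ShortComplex.exact_of_f_is_kernel _ h
  exact (ShortComplex.ab_exact_iff _).1 this t ht

theorem sh_preservesFiniteLimits : PreservesFiniteLimits (sh f) := by
  refine ((sh f).preservesFiniteLimits_iff_forall_exact_map_and_mono).2 fun S hS => ⟨?_, ?_⟩
  · refine (EtFound.exact_iff_stalks _).2 fun Ω _ _ η => ?_
    refine (ShortComplex.ab_exact_iff _).2 fun p hp => ?_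
    obtain ⟨V, v, t, rfl⟩ : ∃ (V : Y.Etale) (v : (Scheme.pointSmallEtale η).fiber.obj V)
        (t : EtCoh.sect ((sh f).obj S.X₂) V),
        (Scheme.pointSmallEtale η).toPresheafFiber V v ((sh f).obj S.X₂).obj t = p :=
      (Scheme.pointSmallEtale η).toPresheafFiber_jointly_surjective p
    have hp' : (Scheme.pointSmallEtale η).toPresheafFiber V v ((sh f).obj S.X₃).obj
        (((sh f).map S.g).hom.app (op V) t) = 0 :=
      ((Scheme.pointSmallEtale η).toPresheafFiber_naturality_apply ((sh f).map S.g).hom V v t).symm.trans hp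
    rw [← map_zero ((Scheme.pointSmallEtale η).toPresheafFiber V v ((sh f).obj S.X₃).obj).hom] at hp'
    obtain ⟨W, i, w, hw, hi⟩ := ((Scheme.pointSmallEtale η).toPresheafFiber_eq_iff' V v _ _).1 hp'
    subst hw
    rw [map_zero] at hi
    let t' : EtCoh.sect ((sh f).obj S.X₂) W := ((sh f).obj S.X₂).obj.map i.op t
    have h0 : S.g.hom.app (op ((EtCoh.bc f).obj W)) (val t') = 0 := by
      refine Eq.trans ?_ (congrArg val hi)
      refine Eq.trans ?_ (congrArg val (ConcreteCategory.congr_hom (((sh f).map S.g).hom.naturality i.op) t))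
      rfl
    obtain ⟨s, hs⟩ := sect_exact hS _ (val t') h0
    have := hS.mono_f
    have hp : ClSub.IsProperOver (EtShriek.prV f W) (EtShriek.sectSupp S.X₁ _ s) := by
      have := isProperOver_val t'
      rwa [← hs, supp_app_of_injective S.f (sect_injective_of_mono S.f)] at this
    refine ⟨(Scheme.pointSmallEtale η).toPresheafFiber W w ((sh f).obj S.X₁).obj (mkSec s hp), ?_⟩
    refine ((Scheme.pointSmallEtale η).toPresheafFiber_naturality_apply ((sh f).map S.f).hom W w _).trans ?_
    refine Eq.trans ?_ ((Scheme.pointSmallEtale η).toPresheafFiber_w_apply i w ((sh f).obj S.X₂).obj t)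
    exact congrArg _ (val_injective hs)
  · have := hS.mono_f
    have : ∀ V, Mono (((sh f).map S.f).hom.app V) := fun V =>
      (AddCommGrpCat.mono_iff_injective _).2 fun s t h =>
        val_injective (sect_injective_of_mono S.f _ (congrArg val h))
    have := NatTrans.mono_of_mono_app ((sh f).map S.f).hom
    exact (sheafToPresheaf _ _).mono_of_mono_map this

variable [IsSeparated f] [LocallyQuasiFinite f]

theorem sh_preservesFiniteColimits : PreservesFiniteColimits (sh f) := by
  have := sh_preservesFiniteLimits f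
  refine ((sh f).preservesFiniteColimits_iff_forall_exact_map_and_epi).2 fun S hS => ⟨?_, ?_⟩
  · exact (((sh f).preservesFiniteLimits_iff_forall_exact_map_and_mono).1 this S hS).1
  · refine (EtFound.epi_iff_stalks _).2 fun k _ _ ξ => ?_
    let l : Spec (CommRingCat.of (AlgebraicClosure k)) ⟶ Spec (CommRingCat.of k) :=
      Spec.map (CommRingCat.ofHom (algebraMap k (AlgebraicClosure k)))
    have := hS.epi_g
    have h2 := epi_stalk_map f (η := l ≫ ξ) S.g
    refine (AddCommGrpCat.epi_iff_surjective _).1 ?_
    have h3 : Epi ((EtCoh.stalk (l ≫ ξ)).map ((sh f).map S.g)) := (AddCommGrpCat.epi_iff_surjective _).2 h2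
    have e := (EtFound.stalkExtIso AddCommGrpCat.{u + 1} ξ l)
    exact ((MorphismProperty.epimorphisms AddCommGrpCat.{u + 1}).arrow_mk_iso_iff
      (Arrow.isoMk (e.app _) (e.app _) (e.hom.naturality ((sh f).map S.g)).symm)).2 h3

end Groth.Agent.EtShriekLib
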