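import Groth.Agent.EtShriekLib.Stalk
import Groth.Agent.EtFound.ExtZero
import Groth.Agent.EtFound.SectionUnr
import Mathlib.Algebra.DirectSum.Basic

/-! extension by zero along separated etale morphisms is `f_!` -/

universe u

open CategoryTheory CategoryTheory.Limits AlgebraicGeometry Opposite

namespace Groth.Agent.EtShriekLib

set_option backward.isDefEq.respectTransparency.types false

/-- components separating the elements of a coproduct of abelian groups -/
theorem eq_zero_of_components {ι : Type u} {A : ι → AddCommGrpCat.{u + 1}} {c : Cofan A} (hc : IsColimit c)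
    (τ : ∀ i, c.pt ⟶ A i) (h : ∀ i, c.inj i ≫ τ i = 𝟙 _) (h' : ∀ i j, i ≠ j → c.inj i ≫ τ j = 0)
    {a : c.pt} (ha : ∀ i, τ i a = 0) : a = 0 := by
  classical
  let σ : c.pt ⟶ AddCommGrpCat.of (DirectSum ι fun i => ↥(A i)) :=
    Cofan.IsColimit.desc hc fun i => AddCommGrpCat.ofHom (DirectSum.of (fun i => ↥(A i)) i)
  let ρ : AddCommGrpCat.of (DirectSum ι fun i => ↥(A i)) ⟶ c.pt :=
    AddCommGrpCat.ofHom (DirectSum.toAddMonoid fun i => (c.inj i).hom)
  have hσρ : σ ≫ ρ = 𝟙 _ := Cofan.IsColimit.hom_ext hc _ _ fun i => by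
    rw [← Category.assoc, Cofan.IsColimit.fac, Category.comp_id]
    ext x
    exact DirectSum.toAddMonoid_of (β := fun i => ↥(A i)) (fun i => (c.inj i).hom) i x
  have hτ : ∀ i, τ i = σ ≫ AddCommGrpCat.ofHom (DFinsupp.evalAddMonoidHom (β := fun i => ↥(A i)) i) := fun i =>
    Cofan.IsColimit.hom_ext hc _ _ fun j => by
      rw [← Category.assoc, Cofan.IsColimit.fac]
      by_cases hij : j = i
      · subst hij
        rw [h]
        ext x
        exact (DirectSum.of_eq_same (β := fun i => ↥(A i)) j x).symm
      · rw [h' j i hij]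
        ext x
        exact (DirectSum.of_eq_of_ne (β := fun i => ↥(A i)) j i x (Ne.symm hij)).symm
  have h0 : σ a = 0 := by
    refine DFinsupp.ext fun i => ?_
    have := ha i
    rw [hτ i] at this
    exact this
  rw [← ConcreteCategory.id_apply (C := AddCommGrpCat.{u + 1}) a, ← hσρ, ConcreteCategory.comp_apply, h0, map_zero]

variable {U X : Scheme.{u}} (j : U ⟶ X) [Etale j]

/-- the graph of an etale `U`-scheme in its base change -/
noncomputable def graph (W : U.Etale) : W ⟶ (EtCoh.bc j).obj ((EtShriek.compEtale j).obj W) :=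
  MorphismProperty.Over.homMk (pullback.lift (𝟙 W.left) W.hom (Category.id_comp _))
    (pullback.lift_snd _ _ _)

theorem graph_fst (W : U.Etale) :
    (graph j W).left ≫ EtShriek.prV j ((EtShriek.compEtale j).obj W) = 𝟙 W.left :=
  pullback.lift_fst _ _ _

theorem graph_natural {W W' : U.Etale} (a : W' ⟶ W) :
    graph j W' ≫ (EtCoh.bc j).map ((EtShriek.compEtale j).map a) = a ≫ graph j W := by
  apply MorphismProperty.Over.Hom.ext
  refine pullback.hom_ext ?_ ?_
  · refine (Category.assoc _ _ _).trans ((congrArg (_ ≫ ·)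
      (EtCoh.isPullback_bc_map j ((EtShriek.compEtale j).map a)).w).trans ?_)
    refine (Category.assoc _ _ _).symm.trans ((congrArg (· ≫ a.left) (graph_fst j W')).trans ?_)
    refine (Category.id_comp _).trans ((Category.comp_id _).symm.trans ?_)
    exact (congrArg (a.left ≫ ·) (graph_fst j W).symm).trans (Category.assoc _ _ _).symm
  · exact (MorphismProperty.Over.w (graph j W' ≫ (EtCoh.bc j).map ((EtShriek.compEtale j).map a))).trans
      (MorphismProperty.Over.w (a ≫ graph j W)).symm

theorem isPullback_graph {W W' : U.Etale} (a : W' ⟶ W) :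
    IsPullback (graph j W').left a.left ((EtCoh.bc j).map ((EtShriek.compEtale j).map a)).left
      (graph j W).left := by
  refine IsPullback.of_right (h₁₂ := EtShriek.prV j ((EtShriek.compEtale j).obj W'))
    (v₁₃ := a.left) (h₂₂ := EtShriek.prV j ((EtShriek.compEtale j).obj W)) ?_
    (congrArg (fun m => m.left) (graph_natural j a) :) ((EtCoh.isPullback_bc_map j ((EtShriek.compEtale j).map a)).flip)
  have : IsIso ((graph j W').left ≫ EtShriek.prV j ((EtShriek.compEtale j).obj W')) :=
    graph_fst j W' ▸ inferInstanceAs (IsIso (𝟙 W'.left))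
  have : IsIso ((graph j W).left ≫ EtShriek.prV j ((EtShriek.compEtale j).obj W)) :=
    graph_fst j W ▸ inferInstanceAs (IsIso (𝟙 W.left))
  refine IsPullback.of_horiz_isIso ⟨?_⟩
  rw [graph_fst, graph_fst]
  exact (Category.id_comp _).trans (Category.comp_id _).symm

variable [IsSeparated j] {F : EtCoh.Ab U}

instance prV_formallyUnramified (V : X.Etale) : AlgebraicGeometry.Etale (EtShriek.prV j V) :=
  MorphismProperty.pullback_fst (P := @AlgebraicGeometry.Etale) V.hom j ‹_›

theorem isClosed_range_graph (W : U.Etale) : IsClosed (Set.range (graph j W).left.base) :=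
  EtFound.isClosed_range_section (EtShriek.prV j ((EtShriek.compEtale j).obj W)) _ (graph_fst j W)

theorem mono_graph (W : U.Etale) : Mono (graph j W).left :=
  have : IsSplitMono (graph j W).left := IsSplitMono.mk' ⟨_, graph_fst j W⟩
  inferInstance

theorem isClosedImmersion_graph (W : U.Etale) : IsClosedImmersion (graph j W).left := by
  have : IsOpenImmersion (graph j W).left :=
    EtFound.isOpenImmersion_section (EtShriek.prV j ((EtShriek.compEtale j).obj W)) _ (graph_fst j W)
  exact .of_isPreimmersion _ (isClosed_range_graph j W)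

theorem exists_etaSec (W : U.Etale) (s : EtCoh.sect F W) :
    ∃ t : EtCoh.sect ((sh j).obj F) ((EtShriek.compEtale j).obj W),
      EtShriek.sectSupp F _ (val t) ⊆ Set.range (graph j W).left.base ∧
        F.obj.map (graph j W).op (val t) = s := by
  have := mono_graph j W
  have := isClosedImmersion_graph j W
  obtain ⟨t, ht, e⟩ := glue_exists (graph j W) (isClosed_range_graph j W) subset_rfl
    (uniqueLifts_of_mono _ _) s (fun x _ => ⟨x, rfl⟩)
  have : IsProper ((graph j W).left ≫ EtShriek.prV j ((EtShriek.compEtale j).obj W)) :=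
    graph_fst j W ▸ inferInstanceAs (IsProper (𝟙 W.left))
  exact ⟨mkSec t (QCoh.isProperOver_of_subset (graph j W).left (isClosed_supp t) ht), ht, e⟩

noncomputable def etaFun (W : U.Etale) (s : EtCoh.sect F W) :
    EtCoh.sect ((sh j).obj F) ((EtShriek.compEtale j).obj W) := (exists_etaSec j W s).choose

theorem etaFun_supp (W : U.Etale) (s : EtCoh.sect F W) :
    EtShriek.sectSupp F _ (val (etaFun j W s)) ⊆ Set.range (graph j W).left.base :=
  (exists_etaSec j W s).choose_spec.1

theorem etaFun_graph (W : U.Etale) (s : EtCoh.sect F W) :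
    F.obj.map (graph j W).op (val (etaFun j W s)) = s := (exists_etaSec j W s).choose_spec.2

theorem etaFun_unique (W : U.Etale) {s : EtCoh.sect F W} {t : EtCoh.sect ((sh j).obj F) ((EtShriek.compEtale j).obj W)}
    (h1 : EtShriek.sectSupp F _ (val t) ⊆ Set.range (graph j W).left.base)
    (h2 : F.obj.map (graph j W).op (val t) = s) : etaFun j W s = t :=
  val_injective (glue_unique (graph j W) subset_rfl (etaFun_supp j W s) h1 ((etaFun_graph j W s).trans h2.symm))

theorem etaFun_add (W : U.Etale) (s t : EtCoh.sect F W) :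
    etaFun j W (s + t) = etaFun j W s + etaFun j W t :=
  etaFun_unique j W ((congrArg (EtShriek.sectSupp F _) (val_add _ _)).subset.trans
    ((supp_add _ _).trans (Set.union_subset (etaFun_supp j W s) (etaFun_supp j W t))))
    ((congrArg (F.obj.map (graph j W).op) (val_add _ _)).trans
      ((map_add (F.obj.map (graph j W).op).hom _ _).trans (congrArg₂ (· + ·) (etaFun_graph j W s) (etaFun_graph j W t))))

theorem etaFun_map {W W' : U.Etale} (a : W' ⟶ W) (s : EtCoh.sect F W) :
    etaFun j W' (F.obj.map a.op s) = ((sh j).obj F).obj.map ((EtShriek.compEtale j).map a).op (etaFun j W s) := by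
  refine etaFun_unique j W' ?_ ?_
  · rw [val_map, supp_map]
    refine (Set.preimage_mono (etaFun_supp j W s)).trans ?_
    rintro p ⟨w, hw⟩
    obtain ⟨w', hw', -⟩ := Scheme.exists_preimage_of_isPullback
      (f := ((EtCoh.bc j).map ((EtShriek.compEtale j).map a)).left) (g := (graph j W).left)
      (fst := (graph j W').left) (snd := a.left) (isPullback_graph j a) p w hw.symm
    exact ⟨w', hw'⟩
  · refine (congrArg (F.obj.map (graph j W').op) (val_map _ _)).trans ?_
    refine (map_comp_apply (graph j W') ((EtCoh.bc j).map ((EtShriek.compEtale j).map a)) (val (etaFun j W s))).trans ?_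
    rw [graph_natural]
    refine (map_comp_apply a (graph j W) (val (etaFun j W s))).symm.trans ?_
    exact congrArg (F.obj.map a.op) (etaFun_graph j W s)

theorem etaFun_app {G : EtCoh.Ab U} (a : F ⟶ G) (W : U.Etale) (s : EtCoh.sect F W) :
    etaFun j W (a.hom.app (op W) s) = ((sh j).map a).hom.app (op ((EtShriek.compEtale j).obj W)) (etaFun j W s) := by
  refine etaFun_unique j W ?_ ?_
  · rw [val_app]
    exact (supp_app_subset a _).trans (etaFun_supp j W s)
  · rw [val_app]
    exact (ConcreteCategory.congr_hom (a.hom.naturality (graph j W).op) _).symm.trans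
      (congrArg (a.hom.app (op W)) (etaFun_graph j W s))

variable [EtShriek.JCont j]

/-- `F ⟶ j^{-1} j_! F` -/
noncomputable def eta : 𝟭 (EtCoh.Ab U) ⟶ sh j ⋙ EtShriek.restrAlong j where
  app F := ⟨{ app := fun W => AddCommGrpCat.ofHom (AddMonoidHom.mk' (etaFun j W.unop) (etaFun_add j W.unop))
              naturality := fun W W' a => by
                ext s
                exact etaFun_map j a.unop s }⟩
  naturality F G a := Sheaf.hom_ext (by
    ext W s
    exact etaFun_app j a W.unop s)

/-- the comparison `j_! F ⟶ (sections with proper support)` -/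
noncomputable def extZeroToSh : EtShriek.extZero j ⟶ sh j where
  app F := ((EtShriek.extZeroAdj j).homEquiv F ((sh j).obj F)).symm ((eta j).app F)
  naturality F G a := by
    rw [← Adjunction.homEquiv_naturality_left_symm, ← Adjunction.homEquiv_naturality_right_symm]
    exact congrArg _ ((eta j).naturality a)

theorem unit_extZeroToSh (F : EtCoh.Ab U) (W : U.Etale) (s : EtCoh.sect F W) :
    ((extZeroToSh j).app F).hom.app (op ((EtShriek.compEtale j).obj W))
      (((EtShriek.extZeroAdj j).unit.app F).hom.app (op W) s) = etaFun j W s := by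
  have e : (EtShriek.extZeroAdj j).unit.app F ≫ (EtShriek.restrAlong j).map ((extZeroToSh j).app F) =
      (eta j).app F := (Adjunction.homEquiv_unit _ _ _ _).symm.trans (Equiv.apply_symm_apply _ _)
  exact congrArg (fun m : F ⟶ (EtShriek.restrAlong j).obj ((sh j).obj F) => m.hom.app (op W) s) e

variable {Ω : Type u} [Field Ω] [IsAlgClosed Ω] {ξ : Spec (CommRingCat.of Ω) ⟶ X}

theorem piStalk_extZeroι_germ (z z' : EtFound.PtsOver j ξ) (W : U.Etale)
    (w : (Scheme.pointSmallEtale z.1).fiber.obj W) (s : EtCoh.sect F W) :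
    piStalk j z'.2 F ((EtCoh.stalk ξ).map ((extZeroToSh j).app F) (EtFound.extZeroι j ξ F z
        ((Scheme.pointSmallEtale z.1).toPresheafFiber W w F.obj s))) =
      (Scheme.pointSmallEtale z'.1).toPresheafFiber _ (EtFound.liftPt j z'.2 (EtFound.extLiftPt z W w)) F.obj
        (val (etaFun j W s)) := by
  have e : EtFound.extZeroι j ξ F z ((Scheme.pointSmallEtale z.1).toPresheafFiber W w F.obj s) =
      (Scheme.pointSmallEtale ξ).toPresheafFiber _ (EtFound.extLiftPt z W w) ((EtShriek.extZero j).obj F).obj
        (((EtShriek.extZeroAdj j).unit.app F).hom.app (op W) s) :=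
    ConcreteCategory.congr_hom (EtFound.extZeroι_germ j ξ F z W w) s
  refine (congrArg (fun t => piStalk j z'.2 F ((EtCoh.stalk ξ).map ((extZeroToSh j).app F) t)) e).trans ?_
  refine (congrArg (piStalk j z'.2 F) ((Scheme.pointSmallEtale ξ).toPresheafFiber_naturality_apply
    ((extZeroToSh j).app F).hom _ (EtFound.extLiftPt z W w) _)).trans ?_
  refine (piStalk_germ j z'.2 F _ _).trans ?_
  exact congrArg (fun t => (Scheme.pointSmallEtale z'.1).toPresheafFiber _ _ F.obj (val t)) (unit_extZeroToSh j F W s)

theorem liftPt_graph (z : EtFound.PtsOver j ξ) (W : U.Etale) (w : (Scheme.pointSmallEtale z.1).fiber.obj W) :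
    EtFound.liftPt j z.2 (EtFound.extLiftPt z W w) = (Scheme.pointSmallEtale z.1).fiber.map (graph j W) w := by
  apply CategoryTheory.Over.OverMorphism.ext
  refine pullback.hom_ext ((pullback.lift_fst _ _ _).trans ?_) ((pullback.lift_snd _ _ _).trans ?_)
  · exact ((Category.assoc _ _ _).trans ((congrArg (_ ≫ ·) (graph_fst j W)).trans (Category.comp_id _))).symm
  · exact ((Category.assoc _ _ _).trans ((congrArg (_ ≫ ·) (MorphismProperty.Over.w (graph j W))).trans
      (CategoryTheory.Over.w w))).symm

theorem extLiftPt_notMem (z z' : EtFound.PtsOver j ξ) (hne : z ≠ z') (W : U.Etale)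
    (w : (Scheme.pointSmallEtale z.1).fiber.obj W) :
    EtFound.ptOf (EtFound.liftPt j z'.2 (EtFound.extLiftPt z W w)) ∉ Set.range (graph j W).left.base := by
  rintro ⟨q, hq⟩
  obtain ⟨w', hw', -⟩ := EtFound.exists_lift_point (graph j W) _ q hq
  have e := congrArg (fun m => (m.left : Spec (CommRingCat.of Ω) ⟶ _)) hw'
  have e1 := congrArg (· ≫ EtShriek.prV j ((EtShriek.compEtale j).obj W)) e
  have h1 : (w'.left : Spec (CommRingCat.of Ω) ⟶ W.left) = w.left :=
    ((Category.assoc _ _ _).trans ((congrArg (_ ≫ ·) (graph_fst j W)).trans (Category.comp_id _))).symm.trans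
      (e1.trans (pullback.lift_fst _ _ _))
  refine hne (Subtype.ext ?_)
  exact (CategoryTheory.Over.w w).symm.trans ((congrArg (· ≫ W.hom) h1.symm).trans (CategoryTheory.Over.w w'))

theorem piStalk_extZeroι (z : EtFound.PtsOver j ξ) :
    EtFound.extZeroι j ξ F z ≫ (EtCoh.stalk ξ).map ((extZeroToSh j).app F) ≫ piStalk j z.2 F = 𝟙 _ := by
  refine (Scheme.pointSmallEtale z.1).presheafFiber_hom_ext fun W w => ?_
  ext s
  refine (piStalk_extZeroι_germ j z z W w s).trans ?_
  rw [liftPt_graph, ← (Scheme.pointSmallEtale z.1).toPresheafFiber_w_apply, etaFun_graph]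
  rfl

theorem piStalk_extZeroι_ne (z z' : EtFound.PtsOver j ξ) (h : z ≠ z') :
    EtFound.extZeroι j ξ F z ≫ (EtCoh.stalk ξ).map ((extZeroToSh j).app F) ≫ piStalk j z'.2 F = 0 := by
  refine (Scheme.pointSmallEtale z.1).presheafFiber_hom_ext fun W w => ?_
  ext s
  refine (piStalk_extZeroι_germ j z z' W w s).trans ?_
  exact map_germ_zero_of_supp _ _ fun hm => extLiftPt_notMem j z z' h W w (etaFun_supp j W s hm)

theorem isIso_extZeroToSh : IsIso (extZeroToSh j (U := U)) := by
  have := locallyQuasiFinite_of_etale j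
  suffices ∀ F, IsIso ((extZeroToSh j).app F) from NatIso.isIso_of_isIso_app _
  intro F
  refine isIso_iff_algClosed _ fun Ω _ _ ξ => (ConcreteCategory.isIso_iff_bijective _).2 ⟨?_, ?_⟩
  · refine (injective_iff_map_eq_zero ((EtCoh.stalk ξ).map ((extZeroToSh j).app F)).hom).2 fun a ha => ?_
    refine eq_zero_of_components (EtFound.extZeroCofanIsColimit j ξ F)
      (fun z => (EtCoh.stalk ξ).map ((extZeroToSh j).app F) ≫ piStalk j z.2 F)
      (fun z => piStalk_extZeroι j z) (fun z z' h => piStalk_extZeroι_ne j z z' h) fun z => ?_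
    exact (congrArg (piStalk j z.2 F) ha).trans (map_zero (piStalk j z.2 F).hom)
  · refine piStalk_surjective j F ((EtCoh.stalk ξ).map ((extZeroToSh j).app F)).hom fun z hz c => ?_
    refine ⟨EtFound.extZeroι j ξ F ⟨z, hz⟩ c, ConcreteCategory.congr_hom (piStalk_extZeroι j ⟨z, hz⟩) c,
      fun z' hz' h => ?_⟩
    exact ConcreteCategory.congr_hom
      (piStalk_extZeroι_ne j ⟨z, hz⟩ ⟨z', hz'⟩ fun e => h (congrArg Subtype.val e).symm) c

/-- `j_!` is `f_!` for `f = j` -/
noncomputable def extZeroIso : EtShriek.extZero j ≅ sh j :=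
  have := isIso_extZeroToSh j
  asIso (extZeroToSh j)

end Groth.Agent.EtShriekLib
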