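import Groth.Agent.EtShriekLib.Comp

/-! global sections with compact support -/

universe u

open CategoryTheory CategoryTheory.Limits AlgebraicGeometry Opposite

namespace Groth.Agent.EtShriekLib

set_option backward.isDefEq.respectTransparency.types false

variable {X Y : Scheme.{u}} (j : X ⟶ Y)

theorem isPullback_top : IsPullback (EtShriek.prV j (EtCoh.top Y))
    (pullback.snd (EtCoh.top Y).hom j) (𝟙 Y) j :=
  IsPullback.of_hasPullback (EtCoh.top Y).hom j

/-- `X ≅ Y ×_Y X` in the small etale site of `X` -/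
noncomputable def topIso : EtCoh.top X ≅ (EtCoh.bc j).obj (EtCoh.top Y) :=
  MorphismProperty.Over.isoMk
    { hom := pullback.lift j (𝟙 X) ((Category.comp_id _).trans (Category.id_comp _).symm)
      inv := pullback.snd (EtCoh.top Y).hom j
      hom_inv_id := pullback.lift_snd _ _ _
      inv_hom_id := pullback.hom_ext
        ((Category.assoc _ _ _).trans ((congrArg (_ ≫ ·) (pullback.lift_fst _ _ _)).trans
          ((isPullback_top j).w.symm.trans ((Category.comp_id _).trans (Category.id_comp _).symm))))
        ((Category.assoc _ _ _).trans ((congrArg (_ ≫ ·) (pullback.lift_snd _ _ _)).trans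
          ((Category.comp_id _).trans (Category.id_comp _).symm))) }
    (pullback.lift_snd _ _ _)

theorem topIso_fst : (topIso j).hom.left ≫ EtShriek.prV j (EtCoh.top Y) = j := pullback.lift_fst _ _ _

instance isIso_topIso_left : IsIso (topIso j).hom.left :=
  ⟨(topIso j).inv.left, congrArg (fun m => m.left) (topIso j).hom_inv_id,
    congrArg (fun m => m.left) (topIso j).inv_hom_id⟩

theorem mem_H0c_iff {k : Type u} [Field k] (p : X ⟶ Spec (CommRingCat.of k)) [LocallyOfFiniteType p]
    (F : EtCoh.Ab X) (s : EtCoh.sect F (EtCoh.top X)) :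
    s ∈ EtShriek.H0c p F ↔ ClSub.IsProperOver (X := X) p (EtShriek.sectSupp F _ s) := by
  refine ⟨fun hs => ?_, fun h => AddSubgroup.subset_closure ((hasProperSupport_iff _ _).2 h)⟩
  have : LocallyOfFiniteType (p : (EtCoh.top X).left ⟶ _) := ‹_›
  induction hs using AddSubgroup.closure_induction with
  | mem x hx => exact (hasProperSupport_iff (U := EtCoh.top X) _ _).1 hx
  | zero => rw [supp_zero]; exact QCoh.isProperOver_empty
  | add x y _ _ hx hy =>
    exact QCoh.IsProperOver.subset (QCoh.IsProperOver.union hx hy) (isClosed_supp _) (supp_add x y)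
  | neg x _ hx => rwa [supp_neg]

variable [LocallyOfFiniteType j] {F : EtCoh.Ab X}

/-- sections with compact support, through a compactification -/
noncomputable def h0cEquiv {k : Type u} [Field k] (pb : Y ⟶ Spec (CommRingCat.of k)) [IsProper pb]
    (p : X ⟶ Spec (CommRingCat.of k)) [LocallyOfFiniteType p] (hp : p = j ≫ pb) :
    EtCoh.sect ((sh j).obj F) (EtCoh.top Y) ≃+ EtShriek.H0c p F := by
  subst hp
  have hiff : ∀ t : EtCoh.sect F ((EtCoh.bc j).obj (EtCoh.top Y)),
      ClSub.IsProperOver (X := X) (j ≫ pb) (EtShriek.sectSupp F _ (F.obj.map (topIso j).hom.op t)) ↔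
        ClSub.IsProperOver (EtShriek.prV j (EtCoh.top Y)) (EtShriek.sectSupp F _ t) := by
    intro t
    have : LocallyOfFiniteType (j : (EtCoh.top X).left ⟶ Y) := ‹LocallyOfFiniteType j›
    have h1 : ClSub.IsProperOver (X := X) j (EtShriek.sectSupp F _ (F.obj.map (topIso j).hom.op t)) ↔
        ClSub.IsProperOver (EtShriek.prV j (EtCoh.top Y)) (EtShriek.sectSupp F _ t) := by
      rw [supp_map]
      exact @isProperOver_iff_of_iso _ _ _ (topIso j).hom.left inferInstance (EtShriek.prV j (EtCoh.top Y)) j inferInstance ‹LocallyOfFiniteType j› (topIso_fst j) _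
    rw [← h1]
    refine ⟨fun h => ((isProperOver_comp_iff j pb _).1 h).1, fun h => (isProperOver_comp_iff j pb _).2 ⟨h, ?_⟩⟩
    exact ⟨isClosed_image h, inferInstance⟩
  refine AddEquiv.mk' (Equiv.ofBijective (fun s => (⟨F.obj.map (topIso j).hom.op (val s),
    (mem_H0c_iff _ F _).2 ((hiff _).2 (isProperOver_val s))⟩ : EtShriek.H0c (j ≫ pb) F)) ⟨?_, ?_⟩) ?_
  · intro s t h
    exact val_injective ((ConcreteCategory.injective_of_mono_of_preservesPullback
      (F.obj.map (topIso j).hom.op)) (congrArg Subtype.val h))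
  · rintro ⟨t, ht⟩
    have e : F.obj.map (topIso j).hom.op (F.obj.map (topIso j).inv.op t) = t := by
      rw [map_comp_apply, Iso.hom_inv_id, op_id, F.obj.map_id, ConcreteCategory.id_apply]
    refine ⟨mkSec (F.obj.map (topIso j).inv.op t) ((hiff _).1 ?_), Subtype.ext e⟩
    rw [e]
    exact (mem_H0c_iff _ F _).1 ht
  · intro s t
    exact Subtype.ext (map_add (F.obj.map (topIso j).hom.op).hom (val s) (val t))

end Groth.Agent.EtShriekLib
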