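import Groth.Prelude.Def_EtTens2
import Groth.Agent.EtFound.Stalk
import Groth.Agent.EtFound.Detect

/-! stalks of tensor products of abelian etale sheaves -/

universe u

open CategoryTheory CategoryTheory.Limits AlgebraicGeometry Opposite TensorProduct

namespace Groth.Agent.EtShriekLib

set_option backward.isDefEq.respectTransparency.types false

variable {X : Scheme.{u}} (F G : EtCoh.Ab X) {Ω : Type u} [Field Ω] [IsSepClosed Ω]
  (ξ : Spec (CommRingCat.of Ω) ⟶ X)

/-- the germ map -/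
noncomputable def gm (F : EtCoh.Ab X) {U : X.Etale} (z : (Scheme.pointSmallEtale ξ).fiber.obj U) :
    EtCoh.sect F U →+ (EtCoh.stalk ξ).obj F :=
  ((Scheme.pointSmallEtale ξ).toPresheafFiber U z F.obj).hom

theorem gm_app {F G : EtCoh.Ab X} (a : F ⟶ G) {U : X.Etale} (z : (Scheme.pointSmallEtale ξ).fiber.obj U)
    (s : EtCoh.sect F U) : gm ξ G z (a.hom.app (op U) s) = (EtCoh.stalk ξ).map a (gm ξ F z s) :=
  ((Scheme.pointSmallEtale ξ).toPresheafFiber_naturality_apply a.hom U z s).symm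

theorem gm_map {U V : X.Etale} (g : V ⟶ U) (z : (Scheme.pointSmallEtale ξ).fiber.obj V) (s : EtCoh.sect F U) :
    gm ξ F z (F.obj.map g.op s) = gm ξ F ((Scheme.pointSmallEtale ξ).fiber.map g z) s :=
  (Scheme.pointSmallEtale ξ).toPresheafFiber_w_apply g z F.obj s

theorem exists_gm (p : (EtCoh.stalk ξ).obj F) :
    ∃ (U : X.Etale) (z : (Scheme.pointSmallEtale ξ).fiber.obj U) (s : EtCoh.sect F U), gm ξ F z s = p :=
  (Scheme.pointSmallEtale ξ).toPresheafFiber_jointly_surjective p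

theorem exists_refine {U V : X.Etale} (u : (Scheme.pointSmallEtale ξ).fiber.obj U)
    (v : (Scheme.pointSmallEtale ξ).fiber.obj V) :
    ∃ (T : X.Etale) (t : (Scheme.pointSmallEtale ξ).fiber.obj T) (a : T ⟶ U) (b : T ⟶ V),
      (Scheme.pointSmallEtale ξ).fiber.map a t = u ∧ (Scheme.pointSmallEtale ξ).fiber.map b t = v := by
  obtain ⟨⟨T, t⟩, ⟨a, ha⟩, ⟨b, hb⟩, -⟩ := IsCofilteredOrEmpty.cone_objs
    ((Scheme.pointSmallEtale ξ).fiber.elementsMk U u) ((Scheme.pointSmallEtale ξ).fiber.elementsMk V v)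
  exact ⟨T, t, a, b, ha, hb⟩

/-- elements of two stalks are represented over a common neighbourhood -/
theorem exists_common_gm (p : (EtCoh.stalk ξ).obj F) (q : (EtCoh.stalk ξ).obj G) :
    ∃ (T : X.Etale) (t : (Scheme.pointSmallEtale ξ).fiber.obj T) (a : EtCoh.sect F T) (b : EtCoh.sect G T),
      gm ξ F t a = p ∧ gm ξ G t b = q := by
  obtain ⟨U, u, a, rfl⟩ := exists_gm F ξ p
  obtain ⟨V, v, b, rfl⟩ := exists_gm G ξ q
  obtain ⟨T, t, α, β, rfl, rfl⟩ := exists_refine ξ u v
  exact ⟨T, t, _, _, gm_map F ξ α t a, gm_map G ξ β t b⟩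

/-- germs in the presheaf tensor product -/
noncomputable def tgm {U : X.Etale} (z : (Scheme.pointSmallEtale ξ).fiber.obj U) :
    (EtCoh.sect F U ⊗[ℤ] EtCoh.sect G U) →+
      ((Scheme.pointSmallEtale ξ).presheafFiber (A := AddCommGrpCat.{u + 1})).obj (EtTens.tensorObj F.obj G.obj) :=
  ((Scheme.pointSmallEtale ξ).toPresheafFiber U z (EtTens.tensorObj F.obj G.obj)).hom

theorem tgm_map {U V : X.Etale} (g : V ⟶ U) (z : (Scheme.pointSmallEtale ξ).fiber.obj V) (a : EtCoh.sect F U)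
    (b : EtCoh.sect G U) :
    tgm F G ξ z (F.obj.map g.op a ⊗ₜ G.obj.map g.op b) =
      tgm F G ξ ((Scheme.pointSmallEtale ξ).fiber.map g z) (a ⊗ₜ b) :=
  (Scheme.pointSmallEtale ξ).toPresheafFiber_w_apply g z (EtTens.tensorObj F.obj G.obj) (a ⊗ₜ b)

theorem tgm_congr_left {U V : X.Etale} {z : (Scheme.pointSmallEtale ξ).fiber.obj U}
    {z' : (Scheme.pointSmallEtale ξ).fiber.obj V} {a : EtCoh.sect F U} {a' : EtCoh.sect F V}
    {b : EtCoh.sect G U} {b' : EtCoh.sect G V} (ha : gm ξ F z a = gm ξ F z' a')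
    (hb : gm ξ G z b = gm ξ G z' b') : tgm F G ξ z (a ⊗ₜ b) = tgm F G ξ z' (a' ⊗ₜ b') := by
  obtain ⟨T, t, α, β, rfl, rfl⟩ := exists_refine ξ z z'
  rw [← gm_map F ξ α, ← gm_map F ξ β] at ha
  rw [← gm_map G ξ α, ← gm_map G ξ β] at hb
  rw [← tgm_map F G ξ α, ← tgm_map F G ξ β]
  obtain ⟨T₁, f₁, t₁, ht₁, h₁⟩ := ((Scheme.pointSmallEtale ξ).toPresheafFiber_eq_iff' T t _ _).1 ha
  subst ht₁
  rw [← gm_map G ξ f₁, ← gm_map G ξ f₁] at hb
  rw [← tgm_map F G ξ f₁, ← tgm_map F G ξ f₁, h₁]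
  obtain ⟨T₂, f₂, t₂, ht₂, h₂⟩ := ((Scheme.pointSmallEtale ξ).toPresheafFiber_eq_iff' T₁ t₁ _ _).1 hb
  subst ht₂
  rw [← tgm_map F G ξ f₂, ← tgm_map F G ξ f₂, h₂]

noncomputable def pairFun (p : (EtCoh.stalk ξ).obj F) (q : (EtCoh.stalk ξ).obj G) :
    ((Scheme.pointSmallEtale ξ).presheafFiber (A := AddCommGrpCat.{u + 1})).obj (EtTens.tensorObj F.obj G.obj) :=
  tgm F G ξ (exists_common_gm F G ξ p q).choose_spec.choose
    ((exists_common_gm F G ξ p q).choose_spec.choose_spec.choose ⊗ₜ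
      (exists_common_gm F G ξ p q).choose_spec.choose_spec.choose_spec.choose)

theorem pairFun_gm {U : X.Etale} (z : (Scheme.pointSmallEtale ξ).fiber.obj U) (a : EtCoh.sect F U)
    (b : EtCoh.sect G U) : pairFun F G ξ (gm ξ F z a) (gm ξ G z b) = tgm F G ξ z (a ⊗ₜ b) := by
  have h := (exists_common_gm F G ξ (gm ξ F z a) (gm ξ G z b)).choose_spec.choose_spec.choose_spec.choose_spec
  exact tgm_congr_left F G ξ h.1 h.2

theorem pairFun_add_left (p p' : (EtCoh.stalk ξ).obj F) (q : (EtCoh.stalk ξ).obj G) :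
    pairFun F G ξ (p + p') q = pairFun F G ξ p q + pairFun F G ξ p' q := by
  obtain ⟨T, t, a, b, rfl, rfl⟩ := exists_common_gm F G ξ p q
  obtain ⟨V, v, a', rfl⟩ := exists_gm F ξ p'
  obtain ⟨W, w, α, β, rfl, rfl⟩ := exists_refine ξ t v
  rw [← gm_map F ξ α, ← gm_map G ξ α, ← gm_map F ξ β, ← map_add, pairFun_gm, pairFun_gm, pairFun_gm,
    TensorProduct.add_tmul, map_add]

theorem pairFun_add_right (p : (EtCoh.stalk ξ).obj F) (q q' : (EtCoh.stalk ξ).obj G) :
    pairFun F G ξ p (q + q') = pairFun F G ξ p q + pairFun F G ξ p q' := by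
  obtain ⟨T, t, a, b, rfl, rfl⟩ := exists_common_gm F G ξ p q
  obtain ⟨V, v, b', rfl⟩ := exists_gm G ξ q'
  obtain ⟨W, w, α, β, rfl, rfl⟩ := exists_refine ξ t v
  rw [← gm_map F ξ α, ← gm_map G ξ α, ← gm_map G ξ β, ← map_add, pairFun_gm, pairFun_gm, pairFun_gm,
    TensorProduct.tmul_add, map_add]

/-- the pairing of stalks -/
noncomputable def pairPre :
    ((EtCoh.stalk ξ).obj F ⊗[ℤ] (EtCoh.stalk ξ).obj G) →+
      ((Scheme.pointSmallEtale ξ).presheafFiber (A := AddCommGrpCat.{u + 1})).obj (EtTens.tensorObj F.obj G.obj) :=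
  (TensorProduct.lift (LinearMap.mk₂ ℤ (pairFun F G ξ)
            (pairFun_add_left F G ξ)
            (fun c p q => by
              have := map_zsmul (AddMonoidHom.mk' (fun p => pairFun F G ξ p q)
                (fun p p' => pairFun_add_left F G ξ p p' q)) c p
              exact this)
            (pairFun_add_right F G ξ)
            (fun c p q => by
              have := map_zsmul (AddMonoidHom.mk' (fun q => pairFun F G ξ p q)
                (fun q q' => pairFun_add_right F G ξ p q q')) c q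
              exact this))).toAddMonoidHom

theorem pairPre_gm {U : X.Etale} (z : (Scheme.pointSmallEtale ξ).fiber.obj U) (a : EtCoh.sect F U)
    (b : EtCoh.sect G U) : pairPre F G ξ (gm ξ F z a ⊗ₜ gm ξ G z b) = tgm F G ξ z (a ⊗ₜ b) :=
  pairFun_gm F G ξ z a b

/-- germs of tensors, split into germs -/
noncomputable def splitPre :
    ((Scheme.pointSmallEtale ξ).presheafFiber (A := AddCommGrpCat.{u + 1})).obj (EtTens.tensorObj F.obj G.obj) ⟶
      AddCommGrpCat.of ((EtCoh.stalk ξ).obj F ⊗[ℤ] (EtCoh.stalk ξ).obj G) :=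
  (Scheme.pointSmallEtale ξ).presheafFiberDesc
    (fun U z => AddCommGrpCat.ofHom
      (TensorProduct.map (gm ξ F z).toIntLinearMap (gm ξ G z).toIntLinearMap).toAddMonoidHom)
    (fun {V U} g z => EtTens.hom_ext_tmul fun a b => by
      change (TensorProduct.map _ _) ((TensorProduct.map _ _) (a ⊗ₜ b)) = (TensorProduct.map _ _) (a ⊗ₜ b)
      simp only [TensorProduct.map_tmul, AddMonoidHom.coe_toIntLinearMap]
      rw [gm_map F ξ g z a, gm_map G ξ g z b])

theorem splitPre_tgm {U : X.Etale} (z : (Scheme.pointSmallEtale ξ).fiber.obj U)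
    (x : EtCoh.sect F U ⊗[ℤ] EtCoh.sect G U) :
    splitPre F G ξ (tgm F G ξ z x) = TensorProduct.map (gm ξ F z).toIntLinearMap (gm ξ G z).toIntLinearMap x :=
  by
  refine (ConcreteCategory.comp_apply ((Scheme.pointSmallEtale ξ).toPresheafFiber U z
    (EtTens.tensorObj F.obj G.obj)) (splitPre F G ξ) x).symm.trans ?_
  simp only [splitPre, GrothendieckTopology.Point.toPresheafFiber_presheafFiberDesc]
  rfl

theorem pairPre_bijective : Function.Bijective (pairPre F G ξ) := by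
  refine ⟨Function.LeftInverse.injective (g := splitPre F G ξ) fun x => ?_,
    Function.RightInverse.surjective (g := splitPre F G ξ) fun y => ?_⟩
  · induction x using TensorProduct.induction_on with
    | zero => rw [map_zero, map_zero]
    | tmul p q =>
      obtain ⟨T, t, a, b, rfl, rfl⟩ := exists_common_gm F G ξ p q
      rw [pairPre_gm, splitPre_tgm]
      rfl
    | add a b ha hb => rw [map_add, map_add, ha, hb]
  · obtain ⟨U, z, x, rfl⟩ : ∃ (U : X.Etale) (z : (Scheme.pointSmallEtale ξ).fiber.obj U)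
        (x : EtCoh.sect F U ⊗[ℤ] EtCoh.sect G U), tgm F G ξ z x = y :=
      (Scheme.pointSmallEtale ξ).toPresheafFiber_jointly_surjective y
    rw [splitPre_tgm]
    induction x using TensorProduct.induction_on with
    | zero => simp only [map_zero]
    | tmul a b => exact pairPre_gm F G ξ z a b
    | add a b ha hb => rw [map_add, map_add, map_add, ha, hb]

/-- the sheafified pairing -/
noncomputable def tsec {U : X.Etale} :
    (EtCoh.sect F U ⊗[ℤ] EtCoh.sect G U) →+ EtCoh.sect ((EtTens.tensorBi.obj F).obj G) U :=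
  ((toSheafify X.smallEtaleTopology (EtTens.tensorObj F.obj G.obj)).app (op U)).hom

theorem tsec_map {U V : X.Etale} (g : V ⟶ U) (a : EtCoh.sect F U) (b : EtCoh.sect G U) :
    ((EtTens.tensorBi.obj F).obj G).obj.map g.op (tsec F G (a ⊗ₜ b)) =
      tsec F G (F.obj.map g.op a ⊗ₜ G.obj.map g.op b) :=
  (ConcreteCategory.congr_hom ((toSheafify X.smallEtaleTopology (EtTens.tensorObj F.obj G.obj)).naturality g.op)
    (a ⊗ₜ b)).symm

/-- `F_ξ ⊗ G_ξ → (F ⊗ G)_ξ` -/
noncomputable def pair :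
    ((EtCoh.stalk ξ).obj F ⊗[ℤ] (EtCoh.stalk ξ).obj G) →+ (EtCoh.stalk ξ).obj ((EtTens.tensorBi.obj F).obj G) :=
  ((Scheme.pointSmallEtale ξ).presheafFiber.map
    (toSheafify X.smallEtaleTopology (EtTens.tensorObj F.obj G.obj))).hom.comp (pairPre F G ξ)

theorem pair_gm {U : X.Etale} (z : (Scheme.pointSmallEtale ξ).fiber.obj U) (a : EtCoh.sect F U)
    (b : EtCoh.sect G U) :
    pair F G ξ (gm ξ F z a ⊗ₜ gm ξ G z b) = gm ξ ((EtTens.tensorBi.obj F).obj G) z (tsec F G (a ⊗ₜ b)) := by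
  refine (congrArg ((Scheme.pointSmallEtale ξ).presheafFiber.map
    (toSheafify X.smallEtaleTopology (EtTens.tensorObj F.obj G.obj))) (pairPre_gm F G ξ z a b)).trans ?_
  exact (Scheme.pointSmallEtale ξ).toPresheafFiber_naturality_apply
    (toSheafify X.smallEtaleTopology (EtTens.tensorObj F.obj G.obj)) U z (a ⊗ₜ[ℤ] b)

theorem pair_bijective : Function.Bijective (pair F G ξ) := by
  have : IsIso ((Scheme.pointSmallEtale ξ).presheafFiber.map
      (toSheafify X.smallEtaleTopology (EtTens.tensorObj F.obj G.obj))) :=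
    (Scheme.pointSmallEtale ξ).W_isInvertedBy_presheafFiber' _ (GrothendieckTopology.W_toSheafify _ _)
  exact ((ConcreteCategory.isIso_iff_bijective _).1 this).comp (pairPre_bijective F G ξ)

end Groth.Agent.EtShriekLib
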