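import Groth.Agent.EtShriekLib.StalkIso
import Groth.Agent.EtShriekLib.TensorStalk
import Groth.Agent.EtFound.PullGerm

/-! the projection formula for `f_!` -/

universe u

open CategoryTheory CategoryTheory.Limits AlgebraicGeometry Opposite TensorProduct

namespace Groth.Agent.EtShriekLib

set_option backward.isDefEq.respectTransparency.types false

variable {X Y : Scheme.{u}} (f : X ⟶ Y)

/-- `G_η ≅ (f⁻¹G)_ξ` -/
noncomputable def pullStalkHom (G : EtCoh.Ab Y) {Ω : Type u} [Field Ω] [IsSepClosed Ω]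
    {η : Spec (CommRingCat.of Ω) ⟶ Y} {ξ : Spec (CommRingCat.of Ω) ⟶ X} (hξ : ξ ≫ f = η) :
    (EtCoh.stalk η).obj G ⟶ (EtCoh.stalk ξ).obj ((EtCoh.pull f).obj G) :=
  eqToHom (by rw [hξ]) ≫ (EtFound.sheafFiberPullIso (A := AddCommGrpCat.{u + 1}) f ξ).inv.app G

theorem pullStalkHom_bijective (G : EtCoh.Ab Y) {Ω : Type u} [Field Ω] [IsSepClosed Ω]
    {η : Spec (CommRingCat.of Ω) ⟶ Y} {ξ : Spec (CommRingCat.of Ω) ⟶ X} (hξ : ξ ≫ f = η) :
    Function.Bijective (pullStalkHom f G hξ) := by
  have : IsIso ((EtFound.sheafFiberPullIso (A := AddCommGrpCat.{u + 1}) f ξ).inv.app G) :=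
    inferInstance
  exact (ConcreteCategory.isIso_iff_bijective _).1 (inferInstanceAs (IsIso (eqToHom _ ≫ _)))

theorem pullStalkHom_gm (G : EtCoh.Ab Y) {Ω : Type u} [Field Ω] [IsSepClosed Ω]
    {η : Spec (CommRingCat.of Ω) ⟶ Y} {ξ : Spec (CommRingCat.of Ω) ⟶ X} (hξ : ξ ≫ f = η) {V : Y.Etale}
    (v : (Scheme.pointSmallEtale η).fiber.obj V) (t : EtCoh.sect G V) :
    pullStalkHom f G hξ (gm η G v t) = gm ξ ((EtCoh.pull f).obj G) (EtFound.liftPt f hξ v)
      (((EtCoh.pullPushAdj f).unit.app G).hom.app (op V) t) := by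
  subst hξ
  have e : EtFound.bcFiberEquiv f ξ V (EtFound.liftPt f rfl v) = v :=
    (EtFound.bcFiberEquiv f ξ V).apply_symm_apply v
  have h := ConcreteCategory.congr_hom
    (EtFound.sheafFiberPullIso_germ (A := AddCommGrpCat.{u + 1}) f ξ G V (EtFound.liftPt f rfl v)) t
  rw [e] at h
  simp only [pullStalkHom, eqToHom_refl, Category.id_comp]
  exact h

variable [LocallyOfFiniteType f] (F : EtCoh.Ab X) (G : EtCoh.Ab Y)

theorem supp_tsec {A B : EtCoh.Ab X} {U : X.Etale} (a : EtCoh.sect A U) (b : EtCoh.sect B U) :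
    EtShriek.sectSupp _ U (tsec A B (a ⊗ₜ b)) ⊆ EtShriek.sectSupp A U a := by
  intro x hx W g hw h0
  refine hx W g hw ?_
  rw [tsec_map, h0, TensorProduct.zero_tmul, map_zero]

/-- the unit on sections -/
noncomputable def unitSec (V : Y.Etale) :
    EtCoh.sect G V →+ EtCoh.sect ((EtCoh.pull f).obj G) ((EtCoh.bc f).obj V) :=
  (((EtCoh.pullPushAdj f).unit.app G).hom.app (op V)).hom

noncomputable def projFun (V : Y.Etale) (s : EtCoh.sect ((sh f).obj F) V) (t : EtCoh.sect G V) :
    EtCoh.sect ((sh f).obj ((EtTens.tensorBi.obj F).obj ((EtCoh.pull f).obj G))) V :=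
  mkSec (tsec F ((EtCoh.pull f).obj G) (val s ⊗ₜ unitSec f G V t))
    (QCoh.IsProperOver.subset (isProperOver_val s) (isClosed_supp _) (supp_tsec _ _))

theorem projFun_add_left (V : Y.Etale) (s s' : EtCoh.sect ((sh f).obj F) V) (t : EtCoh.sect G V) :
    projFun f F G V (s + s') t = projFun f F G V s t + projFun f F G V s' t :=
  val_injective ((congrArg (tsec F ((EtCoh.pull f).obj G))
    ((congrArg (· ⊗ₜ unitSec f G V t) (val_add s s')).trans (TensorProduct.add_tmul _ _ _))).trans
      ((map_add _ _ _).trans (val_add (projFun f F G V s t) (projFun f F G V s' t)).symm))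

theorem projFun_add_right (V : Y.Etale) (s : EtCoh.sect ((sh f).obj F) V) (t t' : EtCoh.sect G V) :
    projFun f F G V s (t + t') = projFun f F G V s t + projFun f F G V s t' :=
  val_injective ((congrArg (tsec F ((EtCoh.pull f).obj G))
    ((congrArg (val s ⊗ₜ ·) (map_add (unitSec f G V) t t')).trans (TensorProduct.tmul_add _ _ _))).trans
      ((map_add _ _ _).trans (val_add (projFun f F G V s t) (projFun f F G V s t')).symm))

noncomputable def projLift (V : Y.Etale) :
    (EtCoh.sect ((sh f).obj F) V ⊗[ℤ] EtCoh.sect G V) →+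
      EtCoh.sect ((sh f).obj ((EtTens.tensorBi.obj F).obj ((EtCoh.pull f).obj G))) V :=
  (TensorProduct.lift (LinearMap.mk₂ ℤ (projFun f F G V) (projFun_add_left f F G V)
    (fun c p q => by
      have := map_zsmul (AddMonoidHom.mk' (fun p => projFun f F G V p q)
        (fun p p' => projFun_add_left f F G V p p' q)) c p
      exact this)
    (projFun_add_right f F G V)
    (fun c p q => by
      have := map_zsmul (AddMonoidHom.mk' (fun q => projFun f F G V p q)
        (fun q q' => projFun_add_right f F G V p q q')) c q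
      exact this))).toAddMonoidHom

theorem projFun_map {V W : Y.Etale} (φ : W ⟶ V) (s : EtCoh.sect ((sh f).obj F) V) (t : EtCoh.sect G V) :
    projFun f F G W (((sh f).obj F).obj.map φ.op s) (G.obj.map φ.op t) =
      ((sh f).obj ((EtTens.tensorBi.obj F).obj ((EtCoh.pull f).obj G))).obj.map φ.op (projFun f F G V s t) := by
  refine val_injective ?_
  refine Eq.trans ?_ (tsec_map F ((EtCoh.pull f).obj G) ((EtCoh.bc f).map φ) (val s) (unitSec f G V t)).symm
  refine congrArg (tsec F ((EtCoh.pull f).obj G)) (congrArg (_ ⊗ₜ[ℤ] ·) ?_)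
  exact ConcreteCategory.congr_hom (((EtCoh.pullPushAdj f).unit.app G).hom.naturality φ.op) t

noncomputable def projPre : EtTens.tensorObj ((sh f).obj F).obj G.obj ⟶
    ((sh f).obj ((EtTens.tensorBi.obj F).obj ((EtCoh.pull f).obj G))).obj where
  app V := AddCommGrpCat.ofHom (projLift f F G V.unop)
  naturality V W φ := EtTens.hom_ext_tmul fun s t => projFun_map f F G φ.unop s t

/-- `f_! F ⊗ G ⟶ f_!(F ⊗ f⁻¹ G)` -/
noncomputable def projHom : (EtTens.tensorBi.obj ((sh f).obj F)).obj G ⟶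
    (sh f).obj ((EtTens.tensorBi.obj F).obj ((EtCoh.pull f).obj G)) :=
  ((sheafificationAdjunction Y.smallEtaleTopology AddCommGrpCat.{u + 1}).homEquiv
    (EtTens.tensorObj ((sh f).obj F).obj G.obj) _).symm (projPre f F G)

theorem projHom_tsec (V : Y.Etale) (s : EtCoh.sect ((sh f).obj F) V) (t : EtCoh.sect G V) :
    (projHom f F G).hom.app (op V) (tsec ((sh f).obj F) G (s ⊗ₜ t)) = projFun f F G V s t := by
  have h := ((sheafificationAdjunction Y.smallEtaleTopology AddCommGrpCat.{u + 1}).homEquiv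
    (EtTens.tensorObj ((sh f).obj F).obj G.obj)
    ((sh f).obj ((EtTens.tensorBi.obj F).obj ((EtCoh.pull f).obj G)))).apply_symm_apply (projPre f F G)
  rw [Adjunction.homEquiv_unit] at h
  exact ConcreteCategory.congr_hom (NatTrans.congr_app h (op V)) (s ⊗ₜ[ℤ] t)

theorem piStalk_projHom_pair {Ω : Type u} [Field Ω] [IsSepClosed Ω] {η : Spec (CommRingCat.of Ω) ⟶ Y}
    {ξ : Spec (CommRingCat.of Ω) ⟶ X} (hξ : ξ ≫ f = η)
    (x : (EtCoh.stalk η).obj ((sh f).obj F) ⊗[ℤ] (EtCoh.stalk η).obj G) :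
    piStalk f hξ _ ((EtCoh.stalk η).map (projHom f F G) (pair ((sh f).obj F) G η x)) =
      pair F ((EtCoh.pull f).obj G) ξ (TensorProduct.map (piStalk f hξ F).hom.toIntLinearMap
        (pullStalkHom f G hξ).hom.toIntLinearMap x) := by
  induction x using TensorProduct.induction_on with
  | zero => simp only [map_zero]
  | add a b ha hb => simp only [map_add, ha, hb]
  | tmul p q =>
    obtain ⟨V, v, s, t, rfl, rfl⟩ := exists_common_gm ((sh f).obj F) G η p q
    rw [pair_gm, ← gm_app, projHom_tsec]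
    refine (piStalk_germ f hξ _ v (projFun f F G V s t)).trans ?_
    refine (pair_gm F ((EtCoh.pull f).obj G) ξ (EtFound.liftPt f hξ v) (val s) (unitSec f G V t)).symm.trans ?_
    refine congrArg (pair F ((EtCoh.pull f).obj G) ξ) ?_
    exact (congrArg₂ (fun a b => a ⊗ₜ[ℤ] b) (piStalk_germ f hξ F v s) (pullStalkHom_gm f G hξ v t)).symm

variable [IsSeparated f] [LocallyQuasiFinite f]

theorem exists_finset_sum_single {Ω : Type u} [Field Ω] [IsAlgClosed Ω] (η : Spec (CommRingCat.of Ω) ⟶ Y)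
    (x : (EtCoh.stalk η).obj ((sh f).obj F) ⊗[ℤ] (EtCoh.stalk η).obj G) :
    ∃ I : Finset (PtsOn f η), ∀ J : Finset (PtsOn f η), I ⊆ J →
      x = ∑ ξ ∈ J, TensorProduct.map (single f F ξ).hom.toIntLinearMap LinearMap.id
        (TensorProduct.map (piStalk f ξ.2 F).hom.toIntLinearMap LinearMap.id x) := by
  classical
  induction x using TensorProduct.induction_on with
  | zero => exact ⟨∅, fun J _ => (Finset.sum_eq_zero fun ξ _ => by simp only [map_zero]).symm⟩
  | add a b ha hb =>
    obtain ⟨I, hI⟩ := ha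
    obtain ⟨I', hI'⟩ := hb
    refine ⟨I ∪ I', fun J hJ => ?_⟩
    simp only [map_add, Finset.sum_add_distrib]
    rw [← hI J (Finset.union_subset_left hJ), ← hI' J (Finset.union_subset_right hJ)]
  | tmul p q =>
    refine ⟨(piStalk_finite f F p).toFinset, fun J hJ => ?_⟩
    have e : p = ∑ ξ ∈ J, single f F ξ (piStalk f ξ.2 F p) := by
      refine piStalk_ext f fun ξ => ?_
      rw [map_sum]
      by_cases h : ξ ∈ J
      · refine (Eq.trans ?_ (Finset.sum_eq_single_of_mem ξ h fun b _ hb =>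
          piStalk_singleFun_ne f F b ξ hb _).symm)
        exact (piStalk_singleFun f F ξ _).symm
      · refine Eq.trans ?_ (Finset.sum_eq_zero fun b hb =>
          piStalk_singleFun_ne f F b ξ (fun e => h (e ▸ hb :)) _).symm
        by_contra h0
        exact h (hJ ((piStalk_finite f F p).mem_toFinset.2 h0))
    refine (congrArg (· ⊗ₜ[ℤ] q) e).trans ?_
    rw [TensorProduct.sum_tmul]
    rfl

theorem isIso_projHom : IsIso (projHom f F G) := by
  refine isIso_iff_algClosed _ fun Ω _ _ η => (ConcreteCategory.isIso_iff_bijective _).2 ⟨?_, ?_⟩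
  · refine (injective_iff_map_eq_zero ((EtCoh.stalk η).map (projHom f F G)).hom).2 fun a ha => ?_
    obtain ⟨x, rfl⟩ := (pair_bijective ((sh f).obj F) G η).2 a
    obtain ⟨I, hI⟩ := exists_finset_sum_single f F G η x
    rw [hI I subset_rfl, map_sum]
    refine Finset.sum_eq_zero fun ξ _ => ?_
    have h := piStalk_projHom_pair f F G ξ.2 x
    rw [ha, map_zero] at h
    have h0 : TensorProduct.map (piStalk f ξ.2 F).hom.toIntLinearMap (pullStalkHom f G ξ.2).hom.toIntLinearMap x = 0 :=
      (pair_bijective F ((EtCoh.pull f).obj G) ξ.1).1 (h.symm.trans (map_zero _).symm)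
    let e : (EtCoh.stalk η).obj G ≃ₗ[ℤ] (EtCoh.stalk ξ.1).obj ((EtCoh.pull f).obj G) :=
      LinearEquiv.ofBijective (pullStalkHom f G ξ.2).hom.toIntLinearMap (pullStalkHom_bijective f G ξ.2)
    have h1 : TensorProduct.map (piStalk f ξ.2 F).hom.toIntLinearMap LinearMap.id x = 0 := by
      refine (TensorProduct.congr (LinearEquiv.refl ℤ _) e).injective ?_
      rw [map_zero]
      refine Eq.trans ?_ h0
      change (TensorProduct.map LinearMap.id e.toLinearMap) _ = _
      rw [← LinearMap.comp_apply, ← TensorProduct.map_comp, LinearMap.id_comp, LinearMap.comp_id]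
      rfl
    rw [h1, map_zero, map_zero]
  · refine piStalk_surjective f _ ((EtCoh.stalk η).map (projHom f F G)).hom fun ξ hξ c => ?_
    obtain ⟨x, rfl⟩ := (pair_bijective F ((EtCoh.pull f).obj G) ξ).2 c
    induction x using TensorProduct.induction_on with
    | zero => exact ⟨0, by simp only [map_zero], fun _ _ _ => by simp only [map_zero]⟩
    | add a b ha hb =>
      obtain ⟨a', ha, ha'⟩ := ha
      obtain ⟨b', hb, hb'⟩ := hb
      exact ⟨a' + b', by simp only [map_add, ha, hb], fun ξ' hξ' h => by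
        simp only [map_add, ha' ξ' hξ' h, hb' ξ' hξ' h, add_zero]⟩
    | tmul p q =>
      obtain ⟨q', rfl⟩ := (pullStalkHom_bijective f G hξ).2 q
      refine ⟨pair ((sh f).obj F) G η (single f F ⟨ξ, hξ⟩ p ⊗ₜ q'), ?_, fun ξ' hξ' h => ?_⟩
      · refine (piStalk_projHom_pair f F G hξ _).trans (congrArg (pair F ((EtCoh.pull f).obj G) ξ) ?_)
        exact congrArg (· ⊗ₜ[ℤ] pullStalkHom f G hξ q') (piStalk_singleFun f F ⟨ξ, hξ⟩ p)
      · refine (piStalk_projHom_pair f F G hξ' _).trans ?_
        refine (congrArg (pair F ((EtCoh.pull f).obj G) ξ')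
          ((congrArg (· ⊗ₜ[ℤ] pullStalkHom f G hξ' q') (piStalk_singleFun_ne f F ⟨ξ, hξ⟩ ⟨ξ', hξ'⟩
            (fun e => h (congrArg Subtype.val e).symm) p)).trans (TensorProduct.zero_tmul _ _))).trans ?_
        exact map_zero _

end Groth.Agent.EtShriekLib
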