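import Groth.Agent.EtShriekLib.Supp
import Groth.Agent.EtFound.Descent
import Groth.Agent.QCoh.ProperOver2

/-! sections with proper support -/

universe u

open CategoryTheory CategoryTheory.Limits AlgebraicGeometry Opposite

namespace Groth.Agent.EtShriekLib

set_option backward.isDefEq.respectTransparency.types false

/-- properness is local on the target for surjective etale coverings -/
theorem isProper_of_cover {T V : Scheme.{u}} (f : T ⟶ V) {ι : Type u} (W : ι → Scheme.{u})
    (g : ∀ i, W i ⟶ V) [∀ i, AlgebraicGeometry.Etale (g i)] (hc : ∀ x : V, ∃ i w, (g i).base w = x)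
    (h : ∀ i, IsProper (pullback.snd f (g i))) : IsProper f := by
  let c := Sigma.desc g
  have hι : ∀ i, Sigma.ι W i ≫ c = g i := fun i => by simp [c]
  have : AlgebraicGeometry.Etale c := IsZariskiLocalAtSource.sigmaDesc fun i => inferInstance
  have : Surjective c := ⟨fun x => by
    obtain ⟨i, w, rfl⟩ := hc x
    exact ⟨(Sigma.ι W i).base w, (Scheme.Hom.comp_apply _ _ _).symm.trans
      (congrArg (fun k : W i ⟶ V => k.base w) (hι i))⟩⟩
  have hP : IsProper (pullback.snd f c) := by
    refine IsZariskiLocalAtTarget.of_openCover (P := @IsProper) (Scheme.IsLocallyDirected.openCover (Discrete.functor W)) fun i => ?_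
    have sq := (IsPullback.of_hasPullback (pullback.snd f c) (colimit.ι (Discrete.functor W) i)).paste_horiz
      (IsPullback.of_hasPullback f c)
    replace sq : IsPullback _ _ f (g i.as) :=
      (congrArg (IsPullback _ _ f) (hι i.as)).mp sq
    have := h i.as
    change IsProper (pullback.snd (pullback.snd f c) (colimit.ι (Discrete.functor W) i))
    rw [← sq.isoPullback_hom_snd]
    exact MorphismProperty.comp_mem @IsProper sq.isoPullback.hom _ inferInstance this
  have := EtFound.fpqc_isProper.{u}
  exact MorphismProperty.of_pullback_snd_of_descendsAlong (P := @IsProper)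
    (Q := (@Surjective ⊓ @Flat ⊓ @LocallyOfFinitePresentation : MorphismProperty Scheme.{u}))
    ⟨⟨inferInstance, inferInstance⟩, inferInstance⟩ hP

variable {X Y : Scheme.{u}} {f : X ⟶ Y} {F : EtCoh.Ab X}

instance prV_lft (f : X ⟶ Y) [LocallyOfFiniteType f] (V : Y.Etale) :
    LocallyOfFiniteType (EtShriek.prV f V) :=
  MorphismProperty.pullback_fst (P := @LocallyOfFiniteType) V.hom f ‹_›

instance prV_sep (f : X ⟶ Y) [IsSeparated f] (V : Y.Etale) : IsSeparated (EtShriek.prV f V) :=
  MorphismProperty.pullback_fst (P := @IsSeparated) V.hom f ‹_›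

theorem hasProperSupport_iff {U : X.Etale} {S : Scheme.{u}} (g : U.left ⟶ S) (s : EtCoh.sect F U) :
    EtShriek.HasProperSupport F U s g ↔ ClSub.IsProperOver g (EtShriek.sectSupp F U s) :=
  ⟨fun ⟨_, h, hp⟩ => QCoh.IsProperOver.subset hp (isClosed_supp s) h, fun h => ⟨_, subset_rfl, h⟩⟩

theorem shriekPred_iff [LocallyOfFiniteType f] {V : Y.Etale} (s : EtCoh.sect F ((EtCoh.bc f).obj V)) :
    EtShriek.ShriekPred f F V s ↔
      ClSub.IsProperOver (EtShriek.prV f V) (EtShriek.sectSupp F _ s) := by
  constructor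
  · intro h
    have := (hasProperSupport_iff _ _).1 (h V (𝟙 V))
    rwa [CategoryTheory.Functor.map_id, op_id, F.obj.map_id, ConcreteCategory.id_apply] at this
  · intro h V' φ
    rw [hasProperSupport_iff, supp_map]
    exact QCoh.IsProperOver.baseChange (EtCoh.isPullback_bc_map f φ) h

theorem mem_shriekSubgroup_iff [LocallyOfFiniteType f] {V : Y.Etale}
    (s : EtCoh.sect F ((EtCoh.bc f).obj V)) :
    s ∈ EtShriek.shriekSubgroup f F V ↔
      ClSub.IsProperOver (EtShriek.prV f V) (EtShriek.sectSupp F _ s) := by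
  refine ⟨fun hs => ?_, fun h => AddSubgroup.subset_closure ((shriekPred_iff s).2 h)⟩
  induction hs using AddSubgroup.closure_induction with
  | mem x hx => exact (shriekPred_iff x).1 hx
  | zero => rw [supp_zero]; exact QCoh.isProperOver_empty
  | add x y _ _ hx hy => exact QCoh.IsProperOver.subset (QCoh.IsProperOver.union hx hy) (isClosed_supp _) (supp_add x y)
  | neg x _ hx => rwa [supp_neg]

/-- proper support is local on the base -/
theorem mem_shriekSubgroup_of_cover [LocallyOfFiniteType f] {V : Y.Etale}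
    (s : EtCoh.sect F ((EtCoh.bc f).obj V)) {R : Sieve V} (hR : R ∈ Y.smallEtaleTopology V)
    (h : ∀ (V' : Y.Etale) (φ : V' ⟶ V), R φ →
      F.obj.map ((EtCoh.bc f).map φ).op s ∈ EtShriek.shriekSubgroup f F V') :
    s ∈ EtShriek.shriekSubgroup f F V := by
  rw [mem_shriekSubgroup_iff]
  refine ⟨isClosed_supp s, ?_⟩
  let i := (Scheme.IdealSheafData.vanishingIdeal ⟨EtShriek.sectSupp F _ s, isClosed_supp s⟩).subschemeι
  rw [EtFound.mem_topology_iff] at hR
  choose V' φ v hφ hv using hR
  have : ∀ x, AlgebraicGeometry.Etale (φ x).left := fun x => EtFound.etale_left _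
  refine isProper_of_cover (i ≫ EtShriek.prV f V) (fun x => (V' x).left) (fun x => (φ x).left)
    (fun x => ⟨x, v x, hv x⟩) fun x => ?_
  have h' := (mem_shriekSubgroup_iff _).1 (h _ _ (hφ x))
  rw [supp_map] at h'
  let b := ((EtCoh.bc f).map (φ x)).left
  have sq := (IsPullback.of_hasPullback i b).paste_vert (EtCoh.isPullback_bc_map f (φ x))
  have hr : Set.range (pullback.snd i b) ⊆ b.base ⁻¹' EtShriek.sectSupp F _ s := by
    rw [Scheme.Pullback.range_snd, QCoh.range_vanishing]
  have : IsProper (pullback.snd i b ≫ EtShriek.prV f (V' x)) :=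
    QCoh.isProper_comp_of_isProperOver _ h' hr
  exact (MorphismProperty.cancel_left_of_respectsIso @IsProper sq.isoPullback.hom _).1
    (by rw [sq.isoPullback_hom_snd]; infer_instance)

theorem isSheaf_lowerShriekPre (f : X ⟶ Y) [LocallyOfFiniteType f] (F : EtCoh.Ab X) :
    Presheaf.IsSheaf Y.smallEtaleTopology (EtShriek.lowerShriekPre f F) := by
  have hP : Presieve.IsSheaf Y.smallEtaleTopology (((EtCoh.push f).obj F).obj ⋙ forget AddCommGrpCat.{u + 1}) :=
    (isSheaf_iff_isSheaf_of_type _ _).1
      ((sheafCompose Y.smallEtaleTopology (forget AddCommGrpCat.{u + 1})).obj ((EtCoh.push f).obj F)).property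
  rw [Presheaf.isSheaf_iff_isSheaf_forget _ _ (forget AddCommGrpCat.{u + 1}), isSheaf_iff_isSheaf_of_type]
  intro V R hR x hx
  let y : Presieve.FamilyOfElements (((EtCoh.push f).obj F).obj ⋙ forget AddCommGrpCat.{u + 1}) R.arrows :=
    fun W g hg => Subtype.val (x g hg)
  have hy : y.Compatible := fun Z₁ Z₂ W g₁ g₂ f₁ f₂ h₁ h₂ e => congrArg Subtype.val (hx g₁ g₂ h₁ h₂ e)
  have ht := (hP R hR).amalgamate y hy
  let s : EtCoh.sect F ((EtCoh.bc f).obj V) := (hP R hR).amalgamate y hy
  have hs : ∀ (W : Y.Etale) (g : W ⟶ V) (hg : R g),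
      F.obj.map ((EtCoh.bc f).map g).op s = Subtype.val (x g hg) := fun W g hg =>
    (hP R hR).valid_glue hy g hg
  have hmem : s ∈ EtShriek.shriekSubgroup f F V :=
    mem_shriekSubgroup_of_cover s hR fun W g hg => hs W g hg ▸ Subtype.property (x g hg)
  refine ⟨(⟨s, hmem⟩ : ↥(EtShriek.shriekSubgroup f F V)), fun W g hg => Subtype.ext (hs W g hg), fun t ht => ?_⟩
  refine Subtype.ext ((hP R hR).isSeparatedFor.ext fun W g hg => ?_)
  exact (congrArg Subtype.val (ht g hg)).trans (hs W g hg).symm

end Groth.Agent.EtShriekLib
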