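import Groth.Agent.EtShriekLib.Proper
import Groth.Agent.EtFound.PushOutside
import Groth.Agent.EtFound.FiniteStalk

/-! the sheaf of sections with proper support -/

universe u

open CategoryTheory CategoryTheory.Limits AlgebraicGeometry Opposite

namespace Groth.Agent.EtShriekLib

set_option backward.isDefEq.respectTransparency.types false

variable {X Y : Scheme.{u}} (f : X ⟶ Y) [LocallyOfFiniteType f]

/-- `f_!` without sheafification -/
noncomputable def sh : EtCoh.Ab X ⥤ EtCoh.Ab Y where
  obj F := ⟨EtShriek.lowerShriekPre f F, isSheaf_lowerShriekPre f F⟩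
  map a := ⟨(EtShriek.lowerShriekPreFunctor f).map a⟩
  map_id F := Sheaf.hom_ext ((EtShriek.lowerShriekPreFunctor f).map_id F)
  map_comp a b := Sheaf.hom_ext ((EtShriek.lowerShriekPreFunctor f).map_comp a b)

noncomputable def shIso : EtShriek.lowerShriek f ≅ sh f :=
  Functor.isoWhiskerLeft (sh f) (sheafificationNatIso Y.smallEtaleTopology AddCommGrpCat.{u + 1}).symm

variable {f} {F G : EtCoh.Ab X} {V W : Y.Etale}

/-- the underlying section of `f_* F` -/
noncomputable def val (s : EtCoh.sect ((sh f).obj F) V) : EtCoh.sect F ((EtCoh.bc f).obj V) :=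
  Subtype.val s

noncomputable def valHom (V : Y.Etale) : EtCoh.sect ((sh f).obj F) V →+ EtCoh.sect F ((EtCoh.bc f).obj V) :=
  (EtShriek.shriekSubgroup f F V).subtype

theorem val_injective : Function.Injective (val : EtCoh.sect ((sh f).obj F) V → _) :=
  Subtype.val_injective

theorem val_zero : val (0 : EtCoh.sect ((sh f).obj F) V) = 0 := rfl

theorem val_add (s t : EtCoh.sect ((sh f).obj F) V) : val (s + t) = val s + val t := rfl

theorem isProperOver_val (s : EtCoh.sect ((sh f).obj F) V) :
    ClSub.IsProperOver (EtShriek.prV f V) (EtShriek.sectSupp F _ (val s)) :=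
  (mem_shriekSubgroup_iff _).1 (Subtype.property s)

noncomputable def mkSec (s : EtCoh.sect F ((EtCoh.bc f).obj V))
    (h : ClSub.IsProperOver (EtShriek.prV f V) (EtShriek.sectSupp F _ s)) : EtCoh.sect ((sh f).obj F) V :=
  (⟨s, (mem_shriekSubgroup_iff s).2 h⟩ : ↥(EtShriek.shriekSubgroup f F V))

theorem val_mkSec (s : EtCoh.sect F ((EtCoh.bc f).obj V))
    (h : ClSub.IsProperOver (EtShriek.prV f V) (EtShriek.sectSupp F _ s)) : val (mkSec s h) = s := rfl

theorem val_map (φ : W ⟶ V) (s : EtCoh.sect ((sh f).obj F) V) :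
    val (((sh f).obj F).obj.map φ.op s) = F.obj.map ((EtCoh.bc f).map φ).op (val s) := rfl

theorem val_app (a : F ⟶ G) (s : EtCoh.sect ((sh f).obj F) V) :
    val (((sh f).map a).hom.app (op V) s) = a.hom.app (op ((EtCoh.bc f).obj V)) (val s) := rfl

variable (f) in
/-- the inclusion into the direct image -/
noncomputable def shToPush : sh f ⟶ EtCoh.push f where
  app F := ⟨EtShriek.lowerShriekPreι f F⟩
  naturality _ _ _ := Sheaf.hom_ext (by ext V s; rfl)

theorem shToPush_app (s : EtCoh.sect ((sh f).obj F) V) :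
    ((shToPush f).app F).hom.app (op V) s = val s := rfl

theorem isClosed_image {T S : Scheme.{u}} {p : T ⟶ S} {Z : Set T} (h : ClSub.IsProperOver p Z) :
    IsClosed (p.base '' Z) := by
  obtain ⟨hC, hP⟩ := h
  let i := (Scheme.IdealSheafData.vanishingIdeal ⟨Z, hC⟩).subschemeι
  have : IsProper (i ≫ p) := hP
  have : p.base '' Z = Set.range (i ≫ p).base := by
    rw [Scheme.Hom.comp_base, TopCat.coe_comp, Set.range_comp, QCoh.range_vanishing]
  rw [this]
  exact (i ≫ p).isClosedMap.isClosed_range

/-- the support of a section of `f_! F` is the image of the support -/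
theorem supp_sh (s : EtCoh.sect ((sh f).obj F) V) :
    EtShriek.sectSupp ((sh f).obj F) V s =
      (EtShriek.prV f V).base '' EtShriek.sectSupp F _ (val s) := by
  refine subset_antisymm (fun y hy => ?_) ?_
  · by_contra hn
    let O : V.left.Opens := ⟨_, (isClosed_image (isProperOver_val s)).isOpen_compl⟩
    refine hy (EtFound.restrictEtale V O) (EtFound.restrictEtaleHom V O) ⟨⟨y, hn⟩, rfl⟩ (val_injective ?_)
    rw [val_map, val_zero, ← supp_eq_empty_iff, supp_map, Set.eq_empty_iff_forall_notMem]
    intro p hp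
    have hm : (O.ι).base ((EtShriek.prV f (EtFound.restrictEtale V O)).base p) ∈
        (O : Set V.left) := ((EtShriek.prV f (EtFound.restrictEtale V O)).base p).2
    refine hm ⟨_, hp, ?_⟩
    exact (Scheme.Hom.comp_apply _ _ p).symm.trans ((congrArg (fun k : _ ⟶ V.left => k.base p)
      (EtCoh.isPullback_bc_map f (EtFound.restrictEtaleHom V O)).w).trans (Scheme.Hom.comp_apply _ _ p))
  · rintro _ ⟨x, hx, rfl⟩ W g ⟨w, hw⟩ h0
    obtain ⟨p, hp, -⟩ := Scheme.exists_preimage_of_isPullback (EtCoh.isPullback_bc_map f g) x w hw.symm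
    have := congrArg val h0
    rw [val_map, val_zero, ← supp_eq_empty_iff, supp_map] at this
    exact Set.eq_empty_iff_forall_notMem.1 this p (Set.mem_preimage.2 (hp.symm ▸ hx))

theorem isProperOver_of_iso {T T' S : Scheme.{u}} (e : T' ⟶ T) [IsIso e] (p : T ⟶ S) (p' : T' ⟶ S)
    [LocallyOfFiniteType p] (w : e ≫ p = p') {Z : Set T} (hZ : ClSub.IsProperOver p Z) :
    ClSub.IsProperOver p' (e.base ⁻¹' Z) := by
  subst w
  exact QCoh.IsProperOver.preimage rfl hZ

theorem isProperOver_iff_of_iso {T T' S : Scheme.{u}} (e : T' ⟶ T) [IsIso e] (p : T ⟶ S) (p' : T' ⟶ S)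
    [LocallyOfFiniteType p] [LocallyOfFiniteType p'] (w : e ≫ p = p') (Z : Set T) :
    ClSub.IsProperOver p' (e.base ⁻¹' Z) ↔ ClSub.IsProperOver p Z := by
  refine ⟨fun h => ?_, isProperOver_of_iso e p p' w⟩
  have := isProperOver_of_iso (inv e) p' p (by rw [← w, IsIso.inv_hom_id_assoc]) h
  rwa [← Set.preimage_comp, ← TopCat.coe_comp, ← Scheme.Hom.comp_base, IsIso.inv_hom_id] at this

/-- proper over a composite -/
theorem isProperOver_comp_iff {A B C : Scheme.{u}} (q : A ⟶ B) (r : B ⟶ C) [LocallyOfFiniteType q]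
    [LocallyOfFiniteType r] [IsSeparated r] (Z : Set A) :
    ClSub.IsProperOver (q ≫ r) Z ↔ ClSub.IsProperOver q Z ∧ ClSub.IsProperOver r (q.base '' Z) := by
  constructor
  · intro h
    refine ⟨⟨h.1, ?_⟩, QCoh.IsProperOver.image rfl h fun i _ hi => ?_⟩
    · obtain ⟨hC, hP⟩ := h
      have : IsProper (((Scheme.IdealSheafData.vanishingIdeal ⟨Z, hC⟩).subschemeι ≫ q) ≫ r) := by
        rwa [Category.assoc]
      exact IsProper.of_comp _ r
    · have : UniversallyClosed ((i ≫ q) ≫ r) := by rw [Category.assoc]; infer_instance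
      exact UniversallyClosed.of_comp_of_isSeparated _ r
  · rintro ⟨⟨hC, hP⟩, hr⟩
    refine ⟨hC, ?_⟩
    let i := (Scheme.IdealSheafData.vanishingIdeal ⟨Z, hC⟩).subschemeι
    let k := i ≫ q
    have : IsProper k := hP
    have hk : Set.range k.base = q.base '' Z := by
      simp only [k]
      rw [Scheme.Hom.comp_base, TopCat.coe_comp, Set.range_comp, QCoh.range_vanishing]
    have hi : Set.range k.imageι ⊆ q.base '' Z := by
      rw [show Set.range k.imageι = (k.ker.support : Set B) from Scheme.IdealSheafData.range_subschemeι _,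
        show (k.ker.support : Set B) = closure (Set.range k) from k.support_ker]
      exact (closure_minimal hk.le hr.1)
    have := QCoh.isProper_comp_of_isProperOver k.imageι hr hi
    have : IsProper (k.toImage ≫ k.imageι) := by rw [k.toImage_imageι]; exact hP
    have : IsProper k.toImage := IsProper.of_comp k.toImage k.imageι
    have e : i ≫ q ≫ r = k.toImage ≫ k.imageι ≫ r := by
      rw [← Category.assoc, ← Category.assoc, k.toImage_imageι]
    exact e ▸ inferInstanceAs (IsProper (k.toImage ≫ k.imageι ≫ r))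

end Groth.Agent.EtShriekLib
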