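import Groth.Agent.EtShriekLib.StalkSurj
import Groth.Agent.EtShriekLib.ExtZero

/-! the stalk of `f_!` is the sum of the stalks above, `f` quasi-finite separated -/

universe u

open CategoryTheory CategoryTheory.Limits AlgebraicGeometry Opposite

namespace Groth.Agent.EtShriekLib

set_option backward.isDefEq.respectTransparency.types false

variable {X Y : Scheme.{u}} (f : X ⟶ Y) [LocallyOfFiniteType f] [IsSeparated f] [LocallyQuasiFinite f]
  {Ω : Type u} [Field Ω] [IsAlgClosed Ω] {η : Spec (CommRingCat.of Ω) ⟶ Y}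

/-- the geometric points above -/
abbrev PtsOn (η : Spec (CommRingCat.of Ω) ⟶ Y) : Type u := {ξ : Spec (CommRingCat.of Ω) ⟶ X // ξ ≫ f = η}

theorem piStalk_ext {F : EtCoh.Ab X} {p q : (EtCoh.stalk η).obj ((sh f).obj F)}
    (h : ∀ ξ : PtsOn f η, piStalk f ξ.2 F p = piStalk f ξ.2 F q) : p = q :=
  sub_eq_zero.1 (piStalk_injective f F fun ξ hξ => by rw [map_sub, h ⟨ξ, hξ⟩, sub_self])

noncomputable def singleFun (F : EtCoh.Ab X) (ξ : PtsOn f η) (c : (EtCoh.stalk ξ.1).obj F) :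
    (EtCoh.stalk η).obj ((sh f).obj F) :=
  (exists_single_germ f F ξ.2 c).choose

theorem piStalk_singleFun (F : EtCoh.Ab X) (ξ : PtsOn f η) (c : (EtCoh.stalk ξ.1).obj F) :
    piStalk f ξ.2 F (singleFun f F ξ c) = c := (exists_single_germ f F ξ.2 c).choose_spec.1

theorem piStalk_singleFun_ne (F : EtCoh.Ab X) (ξ ξ' : PtsOn f η) (h : ξ ≠ ξ') (c : (EtCoh.stalk ξ.1).obj F) :
    piStalk f ξ'.2 F (singleFun f F ξ c) = 0 :=
  (exists_single_germ f F ξ.2 c).choose_spec.2 ξ'.1 ξ'.2 fun e => h (Subtype.ext e.symm)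

theorem singleFun_add (F : EtCoh.Ab X) (ξ : PtsOn f η) (c d : (EtCoh.stalk ξ.1).obj F) :
    singleFun f F ξ (c + d) = singleFun f F ξ c + singleFun f F ξ d :=
  piStalk_ext f fun ξ' => by
    rw [map_add]
    by_cases h : ξ = ξ'
    · subst h
      rw [piStalk_singleFun, piStalk_singleFun, piStalk_singleFun]
    · rw [piStalk_singleFun_ne f F ξ ξ' h, piStalk_singleFun_ne f F ξ ξ' h, piStalk_singleFun_ne f F ξ ξ' h,
        add_zero]

noncomputable def single (F : EtCoh.Ab X) (ξ : PtsOn f η) :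
    (EtCoh.stalk ξ.1).obj F ⟶ (EtCoh.stalk η).obj ((sh f).obj F) :=
  AddCommGrpCat.ofHom (AddMonoidHom.mk' (singleFun f F ξ) (singleFun_add f F ξ))

theorem single_pi (F : EtCoh.Ab X) (ξ : PtsOn f η) : single f F ξ ≫ piStalk f ξ.2 F = 𝟙 _ := by
  ext c
  exact piStalk_singleFun f F ξ c

theorem single_pi_ne (F : EtCoh.Ab X) (ξ ξ' : PtsOn f η) (h : ξ ≠ ξ') : single f F ξ ≫ piStalk f ξ'.2 F = 0 := by
  ext c
  exact piStalk_singleFun_ne f F ξ ξ' h c

theorem single_naturality {F G : EtCoh.Ab X} (a : F ⟶ G) (ξ : PtsOn f η) :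
    single f F ξ ≫ (EtCoh.stalk η).map ((sh f).map a) = (EtCoh.stalk ξ.1).map a ≫ single f G ξ := by
  ext c
  refine piStalk_ext f fun ξ' => ?_
  refine ((ConcreteCategory.congr_hom (piStalk_naturality f ξ'.2 a) _).symm).trans ?_
  by_cases h : ξ = ξ'
  · subst h
    refine (congrArg _ (piStalk_singleFun f F ξ c)).trans ?_
    exact (piStalk_singleFun f G ξ _).symm
  · refine (congrArg _ (piStalk_singleFun_ne f F ξ ξ' h c)).trans ?_
    exact (map_zero ((EtCoh.stalk ξ'.1).map a).hom).trans (piStalk_singleFun_ne f G ξ ξ' h _).symm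

/-- `(f_! F)_η` is the coproduct of the `F_ξ` -/
theorem isIso_sumToStalk (F : EtCoh.Ab X) :
    IsIso (Limits.Sigma.desc (single f F) : (∐ fun ξ : PtsOn f η => (EtCoh.stalk ξ.1).obj F) ⟶ _) := by
  refine (ConcreteCategory.isIso_iff_bijective _).2 ⟨?_, ?_⟩
  · refine (injective_iff_map_eq_zero (Limits.Sigma.desc (single f F)).hom).2 fun a ha => ?_
    refine eq_zero_of_components (coproductIsCoproduct _)
      (fun ξ => Limits.Sigma.desc (single f F) ≫ piStalk f ξ.2 F)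
      (fun ξ => by simp [single_pi]) (fun ξ ξ' h => by simp [single_pi_ne f F ξ ξ' h]) fun ξ => ?_
    exact (congrArg (piStalk f ξ.2 F) ha).trans (map_zero (piStalk f ξ.2 F).hom)
  · refine piStalk_surjective f F (Limits.Sigma.desc (single f F)).hom fun ξ hξ c => ?_
    have e : Limits.Sigma.desc (single f F) (Sigma.ι (fun ξ : PtsOn f η => (EtCoh.stalk ξ.1).obj F) ⟨ξ, hξ⟩ c) =
        singleFun f F ⟨ξ, hξ⟩ c :=
      ConcreteCategory.congr_hom (Sigma.ι_desc (single f F) ⟨ξ, hξ⟩) c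
    refine ⟨Sigma.ι (fun ξ : PtsOn f η => (EtCoh.stalk ξ.1).obj F) ⟨ξ, hξ⟩ c,
      (congrArg (piStalk f hξ F) e).trans (piStalk_singleFun f F ⟨ξ, hξ⟩ c), fun ξ' hξ' h => ?_⟩
    exact (congrArg (piStalk f hξ' F) e).trans
      (piStalk_singleFun_ne f F ⟨ξ, hξ⟩ ⟨ξ', hξ'⟩ (fun e' => h (congrArg Subtype.val e').symm) c)

noncomputable def stalkIso (F : EtCoh.Ab X) :
    (∐ fun ξ : PtsOn f η => (EtCoh.stalk ξ.1).obj F) ≅ (EtCoh.stalk η).obj ((sh f).obj F) :=
  have := isIso_sumToStalk f (η := η) F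
  asIso (Limits.Sigma.desc (single f F))

theorem mono_stalk_map {F G : EtCoh.Ab X} (a : F ⟶ G) [Mono a] :
    Function.Injective ((EtCoh.stalk η).map ((sh f).map a)) := by
  refine (injective_iff_map_eq_zero ((EtCoh.stalk η).map ((sh f).map a)).hom).2 fun p hp => ?_
  refine piStalk_injective f F fun ξ hξ => (EtFound.mono_iff_stalks a).1 inferInstance Ω ξ ?_
  refine (ConcreteCategory.congr_hom (piStalk_naturality f hξ a) p).trans ?_
  exact (congrArg (piStalk f hξ G) hp).trans ((map_zero (piStalk f hξ G).hom).trans (map_zero _).symm)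

theorem epi_stalk_map {F G : EtCoh.Ab X} (a : F ⟶ G) [Epi a] :
    Function.Surjective ((EtCoh.stalk η).map ((sh f).map a)) := by
  refine piStalk_surjective f G ((EtCoh.stalk η).map ((sh f).map a)).hom fun ξ hξ c => ?_
  obtain ⟨d, rfl⟩ := (EtFound.epi_iff_stalks a).1 inferInstance Ω ξ c
  refine ⟨singleFun f F ⟨ξ, hξ⟩ d, ?_, fun ξ' hξ' h => ?_⟩
  · exact (ConcreteCategory.congr_hom (piStalk_naturality f hξ a) _).symm.trans
      (congrArg ((EtCoh.stalk ξ).map a) (piStalk_singleFun f F ⟨ξ, hξ⟩ d))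
  · exact (ConcreteCategory.congr_hom (piStalk_naturality f hξ' a) _).symm.trans
      ((congrArg ((EtCoh.stalk ξ').map a) (piStalk_singleFun_ne f F ⟨ξ, hξ⟩ ⟨ξ', hξ'⟩
        (fun e' => h (congrArg Subtype.val e').symm) d)).trans (map_zero ((EtCoh.stalk ξ').map a).hom))

end Groth.Agent.EtShriekLib
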