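import Groth.Agent.EtShriekLib.Stalk
import Groth.Agent.EtFound.FiniteSplit
import Groth.Agent.EtFound.NoethCard

/-! sections of `f_!` with a prescribed germ, `f` quasi-finite -/

universe u

open CategoryTheory CategoryTheory.Limits AlgebraicGeometry Opposite

namespace Groth.Agent.EtShriekLib

set_option backward.isDefEq.respectTransparency.types false

variable {X Y : Scheme.{u}} (f : X ⟶ Y) [LocallyOfFiniteType f]

/-- etale locally, a point of a quasi-finite separated scheme lies in a finite piece with one point over the base point -/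
theorem exists_isolated {U : Scheme.{u}} (a : U ⟶ Y) [IsSeparated a] [LocallyOfFiniteType a] [LocallyQuasiFinite a]
    {Ω : Type u} [Field Ω] [IsAlgClosed Ω] (u₀ : Spec (CommRingCat.of Ω) ⟶ U) :
    ∃ (M : Scheme.{u}) (c : M ⟶ U) (V : Scheme.{u}) (g : V ⟶ Y) (d : M ⟶ V)
      (w : Spec (CommRingCat.of Ω) ⟶ V) (m : Spec (CommRingCat.of Ω) ⟶ M),
      AlgebraicGeometry.Etale c ∧ AlgebraicGeometry.Etale g ∧ IsFinite d ∧ d ≫ g = c ≫ a ∧
        m ≫ c = u₀ ∧ m ≫ d = w ∧ w ≫ g = u₀ ≫ a ∧
        ∀ l : Spec (CommRingCat.of Ω) ⟶ M, l ≫ d = w → l = m := by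
  obtain ⟨T, g, hg, -, A, A', z, -, hfin, hz⟩ :=
    exists_etale_isCompl_of_quasiFiniteAt a (x := u₀.base (default : Spec (CommRingCat.of Ω))) rfl
      (a.quasiFiniteAt _)
  have : AlgebraicGeometry.Etale g := hg
  have : AlgebraicGeometry.Etale (pullback.fst a g) :=
    MorphismProperty.pullback_fst (P := @AlgebraicGeometry.Etale) a g hg
  let P : U.Etale := Scheme.Etale.mk (pullback.fst a g)
  let π : P ⟶ EtCoh.top U := MorphismProperty.Over.homMk (pullback.fst a g) (Category.comp_id _)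
  let u₁ : (Scheme.pointSmallEtale u₀).fiber.obj (EtCoh.top U) :=
    CategoryTheory.Over.homMk u₀ (Category.comp_id _)
  obtain ⟨p, hp, hpz⟩ := EtFound.exists_lift_point π u₁ z.1 hz
  let pl : Spec (CommRingCat.of Ω) ⟶ pullback a g := p.left
  have hpu : pl ≫ pullback.fst a g = u₀ := CategoryTheory.Over.w p
  obtain ⟨qa, hqa⟩ := EtFound.exists_lift_open pl A fun s => by
    rw [Subsingleton.elim (α := Spec (CommRingCat.of Ω)) s default]
    exact (hpz : pl.base default = z.1) ▸ z.2
  let h : A.toScheme ⟶ T := A.ι ≫ pullback.snd a g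
  have : IsFinite h := hfin
  let q : Spec (CommRingCat.of Ω) ⟶ T := qa ≫ h
  obtain ⟨W, w, Q, hQd, hQt, hQm⟩ := EtFound.exists_separated_stage h q
  let wh : W.left ⟶ T := W.hom
  have hWe : AlgebraicGeometry.Etale wh := W.prop
  let wl : Spec (CommRingCat.of Ω) ⟶ W.left := w.left
  have hwq : wl ≫ wh = q := CategoryTheory.Over.w w
  let Q' : {b : Spec (CommRingCat.of Ω) ⟶ A.toScheme // b ≫ h = q} → (pullback wh h).Opens := Q
  let Q₀ : (pullback wh h).Opens := Q' ⟨qa, rfl⟩
  have hQc : IsClosed (Q₀ : Set ↥(pullback wh h)) := by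
    have : (Q₀ : Set ↥(pullback wh h))ᶜ = ⋃ (b) (_ : b ≠ ⟨qa, rfl⟩), (Q' b : Set ↥(pullback wh h)) := by
      ext y
      simp only [Set.mem_compl_iff, Set.mem_iUnion, SetLike.mem_coe]
      constructor
      · intro hy
        have : y ∈ ⨆ b, Q b := hQt ▸ trivial
        obtain ⟨b, hb⟩ := TopologicalSpace.Opens.mem_iSup.1 this
        exact ⟨b, fun e => hy (e ▸ hb :), hb⟩
      · rintro ⟨b, hb, hy⟩ hy'
        exact Set.disjoint_left.1 (TopologicalSpace.Opens.coe_disjoint.2 (hQd hb)) hy hy'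
    exact isOpen_compl_iff.1 (this ▸ isOpen_biUnion fun b _ => (Q b).2)
  let lp : ∀ (b : Spec (CommRingCat.of Ω) ⟶ A.toScheme), b ≫ h = q → (Spec (CommRingCat.of Ω) ⟶ pullback wh h) :=
    fun b hb => pullback.lift wl b (hwq.trans hb.symm)
  have hlp : ∀ b hb, (lp b hb).base (default : Spec (CommRingCat.of Ω)) ∈ (Q' ⟨b, hb⟩ : Set ↥(pullback wh h)) :=
    fun b hb => hQm ⟨b, hb⟩
  obtain ⟨qm, hqm⟩ := EtFound.exists_lift_open (lp qa rfl) Q₀ fun s => by
    rw [Subsingleton.elim (α := Spec (CommRingCat.of Ω)) s default]; exact hlp qa rfl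
  have : IsClosedImmersion Q₀.ι := .of_isPreimmersion _ (by rw [Scheme.Opens.range_ι]; exact hQc)
  have : IsFinite (pullback.fst wh h) := MorphismProperty.pullback_fst (P := @IsFinite) wh h ‹_›
  have : AlgebraicGeometry.Etale (pullback.snd wh h) :=
    MorphismProperty.pullback_snd (P := @AlgebraicGeometry.Etale) wh h hWe
  refine ⟨Q₀.toScheme, (Q₀.ι ≫ pullback.snd wh h) ≫ A.ι ≫ pullback.fst a g, W.left, wh ≫ g,
    Q₀.ι ≫ pullback.fst wh h, wl, qm, inferInstance, inferInstance, inferInstance, ?_, ?_, ?_, ?_, fun l hl => ?_⟩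
  · simp only [Category.assoc, pullback.condition, pullback.condition_assoc, h]
  · refine (Category.assoc _ _ _).symm.trans ((congrArg (· ≫ _) ((Category.assoc _ _ _).symm.trans
      ((congrArg (· ≫ _) hqm).trans (pullback.lift_snd _ _ _)))).trans ?_)
    exact (Category.assoc _ _ _).symm.trans ((congrArg (· ≫ _) hqa).trans hpu)
  · rw [← Category.assoc, hqm, pullback.lift_fst]
  · rw [← Category.assoc, hwq]
    simp only [q, h, Category.assoc]
    rw [← pullback.condition, ← Category.assoc, hqa, ← Category.assoc, hpu]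
  · let b : Spec (CommRingCat.of Ω) ⟶ A.toScheme := (l ≫ Q₀.ι) ≫ pullback.snd wh h
    have hlf : (l ≫ Q₀.ι) ≫ pullback.fst wh h = wl := (Category.assoc _ _ _).trans hl
    have hb : b ≫ h = q := by
      simp only [b]
      rw [Category.assoc, ← pullback.condition, ← Category.assoc, hlf, hwq]
    have e : lp b hb = l ≫ Q₀.ι :=
      pullback.hom_ext ((pullback.lift_fst _ _ _).trans hlf.symm) (pullback.lift_snd _ _ _)
    have hmem : (l ≫ Q₀.ι).base (default : Spec (CommRingCat.of Ω)) ∈ (Q' ⟨b, hb⟩ : Set ↥(pullback wh h)) :=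
      e ▸ hlp b hb
    have hba : b = qa := by
      by_contra hne
      refine Set.disjoint_left.1 (TopologicalSpace.Opens.coe_disjoint.2
        (hQd (i := ⟨b, hb⟩) (j := ⟨qa, rfl⟩) fun e' => hne (congrArg Subtype.val e'))) hmem ?_
      rw [Scheme.Hom.comp_apply]
      exact (l.base default).2
    rw [← cancel_mono Q₀.ι]
    refine Eq.trans ?_ hqm.symm
    exact pullback.hom_ext (hlf.trans (pullback.lift_fst _ _ _).symm) (hba.trans (pullback.lift_snd _ _ _).symm)

/-- a neighbourhood through which every germ at `ξ` can be spread out -/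
theorem exists_finite_nbhd [LocallyQuasiFinite f] {Ω : Type u} [Field Ω] [IsAlgClosed Ω]
    {η : Spec (CommRingCat.of Ω) ⟶ Y} {ξ : Spec (CommRingCat.of Ω) ⟶ X} (hξ : ξ ≫ f = η)
    (U : X.Etale) (u : (Scheme.pointSmallEtale ξ).fiber.obj U) :
    ∃ (V : Y.Etale) (v : (Scheme.pointSmallEtale η).fiber.obj V) (M : X.Etale) (r : M ⟶ U)
      (ψ : M ⟶ (EtCoh.bc f).obj V) (m : (Scheme.pointSmallEtale ξ).fiber.obj M),
      IsFinite (ψ.left ≫ EtShriek.prV f V) ∧ (Scheme.pointSmallEtale ξ).fiber.map r m = u ∧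
      (Scheme.pointSmallEtale ξ).fiber.map ψ m = EtFound.liftPt f hξ v ∧
      ∀ l : Spec (CommRingCat.of Ω) ⟶ M.left,
        l ≫ ψ.left ≫ EtShriek.prV f V = v.left → l = m.left := by
  let UL : Scheme.{u} := U.left
  let uh : UL ⟶ X := U.hom
  have : AlgebraicGeometry.Etale uh := U.prop
  let ul : Spec (CommRingCat.of Ω) ⟶ UL := u.left
  have hul : ul ≫ uh = ξ := CategoryTheory.Over.w u
  obtain ⟨_, ⟨O₀, hO, rfl⟩, hxO, -⟩ := UL.isBasis_affineOpens.exists_subset_of_mem_open
    (Set.mem_univ (ul.base (default : Spec (CommRingCat.of Ω)))) isOpen_univ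
  let O : UL.Opens := O₀
  have : IsAffine O.toScheme := hO
  obtain ⟨qu, hqu⟩ := EtFound.exists_lift_open ul O fun s => by
    rw [Subsingleton.elim (α := Spec (CommRingCat.of Ω)) s default]; exact hxO
  let a : O.toScheme ⟶ Y := (O.ι ≫ uh) ≫ f
  have : IsSeparated (a ≫ terminal.from Y) := by
    rw [terminal.comp_from]; infer_instance
  have : IsSeparated a := IsSeparated.of_comp a (terminal.from Y)
  have := locallyQuasiFinite_of_etale (O.ι ≫ uh)
  obtain ⟨M, c, V, g, d, w, m, _, _, hd, hdg, hmc, hmd, hwg, huniq⟩ := exists_isolated a qu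
  let Me : X.Etale := Scheme.Etale.mk (c ≫ O.ι ≫ uh)
  let Ve : Y.Etale := Scheme.Etale.mk g
  have hη : w ≫ g = η := by
    rw [hwg, ← hξ, ← hul, ← hqu]
    simp only [a, Category.assoc]
  have hξm : m ≫ c ≫ O.ι ≫ uh = ξ := by
    rw [← Category.assoc, hmc, ← Category.assoc, hqu, hul]
  let v : (Scheme.pointSmallEtale η).fiber.obj Ve := CategoryTheory.Over.homMk w hη
  let me : (Scheme.pointSmallEtale ξ).fiber.obj Me := CategoryTheory.Over.homMk m hξm
  let r : Me ⟶ U := MorphismProperty.Over.homMk (c ≫ O.ι) (Category.assoc _ _ _)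
  let ψ : Me ⟶ (EtCoh.bc f).obj Ve :=
    MorphismProperty.Over.homMk (pullback.lift d (c ≫ O.ι ≫ uh) (hdg.trans (by simp only [a, Category.assoc]; rfl)))
      (pullback.lift_snd _ _ _)
  have hψ : ψ.left ≫ EtShriek.prV f Ve = d := pullback.lift_fst _ _ _
  refine ⟨Ve, v, Me, r, ψ, me, (hψ ▸ hd : IsFinite (ψ.left ≫ EtShriek.prV f Ve)), ?_, ?_,
    fun l hl => huniq l ((congrArg (l ≫ ·) hψ).symm.trans hl)⟩
  · apply CategoryTheory.Over.OverMorphism.ext
    exact (Category.assoc m c O.ι).symm.trans ((congrArg (· ≫ O.ι) hmc).trans hqu)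
  · apply CategoryTheory.Over.OverMorphism.ext
    refine pullback.hom_ext ?_ ?_
    · exact (Category.assoc _ _ _).trans ((congrArg (m ≫ ·) hψ).trans (hmd.trans (pullback.lift_fst _ _ _).symm))
    · refine (Category.assoc _ _ _).trans ((congrArg (m ≫ ·) (MorphismProperty.Over.w ψ)).trans ?_)
      exact hξm.trans (pullback.lift_snd _ _ _).symm

theorem exists_single_germ [IsSeparated f] [LocallyQuasiFinite f] (F : EtCoh.Ab X) {Ω : Type u} [Field Ω]
    [IsAlgClosed Ω] {η : Spec (CommRingCat.of Ω) ⟶ Y} {ξ : Spec (CommRingCat.of Ω) ⟶ X} (hξ : ξ ≫ f = η)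
    (c : (EtCoh.stalk ξ).obj F) :
    ∃ p : (EtCoh.stalk η).obj ((sh f).obj F), piStalk f hξ F p = c ∧
      ∀ (ξ' : Spec (CommRingCat.of Ω) ⟶ X) (hξ' : ξ' ≫ f = η), ξ' ≠ ξ → piStalk f hξ' F p = 0 := by
  obtain ⟨U, u, t, rfl⟩ := (Scheme.pointSmallEtale ξ).toPresheafFiber_jointly_surjective c
  obtain ⟨V, v, M, r, ψ, m, hfin, hru, hψm, huniq⟩ := exists_finite_nbhd f hξ U u
  let q : Spec (CommRingCat.of Ω) ⟶ V.left := v.left
  have hψe : AlgebraicGeometry.Etale ψ.left := EtFound.etale_left ψ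
  have : IsFinite ψ.left := IsFinite.of_comp ψ.left (EtShriek.prV f V)
  let Δ := pullback.diagonal ψ.left
  let R : pullback ψ.left ψ.left ⟶ V.left := pullback.fst _ _ ≫ ψ.left ≫ EtShriek.prV f V
  have : IsFinite R := by
    have : IsFinite (pullback.fst ψ.left ψ.left) := MorphismProperty.pullback_fst _ _ ‹_›
    exact inferInstanceAs (IsFinite (pullback.fst _ _ ≫ ψ.left ≫ EtShriek.prV f V))
  let C : Set ↥(pullback ψ.left ψ.left) := (Set.range Δ.base)ᶜ
  have hC : IsClosed C := Δ.isOpenEmbedding.isOpen_range.isClosed_compl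
  let O : V.left.Opens := ⟨(R.base '' C)ᶜ, (R.isClosedMap _ hC).isOpen_compl⟩
  have hvO : EtFound.ptOf v ∈ O := by
    rintro ⟨z, hz, hzv⟩
    obtain ⟨l, hl, hlz⟩ := EtFound.exists_fac_of_integral R q z hzv
    have h1 := huniq (l ≫ pullback.fst _ _) ((Category.assoc _ _ _).trans hl)
    have h2 := huniq (l ≫ pullback.snd _ _) (by
      rw [← Category.assoc, Category.assoc l, ← pullback.condition, Category.assoc, Category.assoc]
      exact hl)
    refine hz ⟨(l ≫ pullback.fst _ _).base default, ?_⟩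
    have : (l ≫ pullback.fst _ _) ≫ Δ = l := pullback.hom_ext
      (by rw [Category.assoc, pullback.diagonal_fst, Category.comp_id])
      (by rw [Category.assoc, pullback.diagonal_snd, Category.comp_id, h1, h2])
    rw [← Scheme.Hom.comp_apply, this]
    exact hlz
  obtain ⟨qv, hqv⟩ := EtFound.exists_lift_open q O fun s => by
    rw [Subsingleton.elim (α := Spec (CommRingCat.of Ω)) s default]; exact hvO
  let V' : Y.Etale := EtFound.restrictEtale V O
  let i : V' ⟶ V := EtFound.restrictEtaleHom V O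
  let v' : (Scheme.pointSmallEtale η).fiber.obj V' := CategoryTheory.Over.homMk qv
    ((Category.assoc _ _ _).symm.trans ((congrArg (· ≫ V.hom) hqv).trans (CategoryTheory.Over.w v)))
  have hv' : (Scheme.pointSmallEtale η).fiber.map i v' = v := CategoryTheory.Over.OverMorphism.ext hqv
  let B := (EtCoh.bc f).obj V'
  let b : B ⟶ (EtCoh.bc f).obj V := (EtCoh.bc f).map i
  have : AlgebraicGeometry.Etale (pullback.snd ψ.left b.left) :=
    MorphismProperty.pullback_snd (P := @AlgebraicGeometry.Etale) _ _ hψe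
  have : AlgebraicGeometry.Etale B.hom := B.prop
  let M' : X.Etale := Scheme.Etale.mk (pullback.snd ψ.left b.left ≫ B.hom)
  let ψ' : M' ⟶ B := MorphismProperty.Over.homMk (pullback.snd ψ.left b.left) rfl
  let j : M' ⟶ M := MorphismProperty.Over.homMk (pullback.fst ψ.left b.left)
    ((congrArg (pullback.fst ψ.left b.left ≫ ·) (MorphismProperty.Over.w ψ).symm).trans
      ((Category.assoc _ _ _).symm.trans ((congrArg (· ≫ ((EtCoh.bc f).obj V).hom) pullback.condition).trans
        ((Category.assoc _ _ _).trans (congrArg (pullback.snd ψ.left b.left ≫ ·) (MorphismProperty.Over.w b))))))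
  have hjψ : j ≫ ψ = ψ' ≫ b := MorphismProperty.Over.Hom.ext pullback.condition
  have hu : UniqueLifts ψ' (Set.univ : Set B.left) := by
    intro k _ _ ζ z₁ z₂ hz _
    have e1 : (z₁.left : Spec (CommRingCat.of k) ⟶ M'.left) ≫ pullback.snd _ _ = z₂.left ≫ pullback.snd _ _ :=
      congrArg (fun m => (m.left : Spec (CommRingCat.of k) ⟶ B.left)) hz
    apply CategoryTheory.Over.OverMorphism.ext
    refine pullback.hom_ext ?_ e1
    let y₁ : Spec (CommRingCat.of k) ⟶ M.left := z₁.left ≫ pullback.fst _ _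
    let y₂ : Spec (CommRingCat.of k) ⟶ M.left := z₂.left ≫ pullback.fst _ _
    have hy : y₁ ≫ ψ.left = y₂ ≫ ψ.left := by
      refine (Category.assoc _ _ _).trans ((congrArg (_ ≫ ·) pullback.condition).trans ?_)
      refine (Category.assoc _ _ _).symm.trans ((congrArg (· ≫ b.left) e1).trans ?_)
      exact (Category.assoc _ _ _).trans ((congrArg (_ ≫ ·) pullback.condition.symm).trans (Category.assoc _ _ _).symm)
    let y := pullback.lift y₁ y₂ hy
    have hR : y ≫ R = ((z₁.left ≫ pullback.snd ψ.left b.left) ≫ EtShriek.prV f V') ≫ O.ι := by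
      refine (Category.assoc _ _ _).symm.trans ((congrArg (· ≫ _) (pullback.lift_fst _ _ _)).trans ?_)
      refine (Category.assoc _ _ _).trans ((congrArg (_ ≫ ·) ((Category.assoc _ _ _).symm.trans
        ((congrArg (· ≫ EtShriek.prV f V) pullback.condition).trans ((Category.assoc _ _ _).trans
          ((congrArg (_ ≫ ·) (EtCoh.isPullback_bc_map f i).w).trans (Category.assoc _ _ _).symm))))).trans ?_)
      refine (Category.assoc _ _ _).symm.trans (congrArg (· ≫ O.ι) ?_)
      exact (Category.assoc _ _ _).symm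
    have hyr : ∀ s, y.base s ∈ Δ.opensRange := fun s => by
      by_contra hC'
      have : R.base (y.base s) ∈ R.base '' C := ⟨_, hC', rfl⟩
      rw [← Scheme.Hom.comp_apply, hR, Scheme.Hom.comp_apply] at this
      exact (((z₁.left ≫ pullback.snd ψ.left b.left) ≫ EtShriek.prV f V').base s).2 this
    let d := IsOpenImmersion.lift Δ y (by rintro _ ⟨s, rfl⟩; exact hyr s)
    have hd : d ≫ Δ = y := IsOpenImmersion.lift_fac _ _ _
    have g1 : d = y₁ := (Category.comp_id d).symm.trans ((congrArg (d ≫ ·) (pullback.diagonal_fst _).symm).trans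
      ((Category.assoc _ _ _).symm.trans ((congrArg (· ≫ pullback.fst _ _) hd).trans (pullback.lift_fst _ _ _))))
    have g2 : d = y₂ := (Category.comp_id d).symm.trans ((congrArg (d ≫ ·) (pullback.diagonal_snd _).symm).trans
      ((Category.assoc _ _ _).symm.trans ((congrArg (· ≫ pullback.snd _ _) hd).trans (pullback.lift_snd _ _ _))))
    exact g1.symm.trans g2
  have : IsFinite ψ'.left := MorphismProperty.pullback_snd (P := @IsFinite) _ _ ‹_›
  have : IsProper (ψ'.left ≫ EtShriek.prV f V') := by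
    have sq : IsPullback (pullback.fst ψ.left b.left) (pullback.snd ψ.left b.left ≫ EtShriek.prV f V')
        (ψ.left ≫ EtShriek.prV f V) i.left :=
      (IsPullback.of_hasPullback ψ.left b.left).paste_vert (EtCoh.isPullback_bc_map f i)
    exact MorphismProperty.of_isPullback (P := @IsProper) sq (inferInstance)
  let t' := F.obj.map (j ≫ r).op t
  obtain ⟨s, hs, hst⟩ := glue_exists ψ' ψ'.left.isClosedMap.isClosed_range subset_rfl
    (fun k _ _ ζ z₁ z₂ e _ => hu k ζ z₁ z₂ e trivial) t' fun y _ => ⟨y, rfl⟩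
  have hsp : ClSub.IsProperOver (EtShriek.prV f V') (EtShriek.sectSupp F B s) :=
    QCoh.IsProperOver.subset (QCoh.isProperOver_range (q := EtShriek.prV f V') ψ'.left) (isClosed_supp s) hs
  let mB : Spec (CommRingCat.of Ω) ⟶ B.left := (EtFound.liftPt f hξ v').left
  have hmb : (m.left : Spec (CommRingCat.of Ω) ⟶ M.left) ≫ ψ.left = mB ≫ b.left := by
    have e := hψm.trans ((congrArg (EtFound.liftPt f hξ) hv').symm.trans (EtFound.liftPt_map f hξ i v').symm)
    exact congrArg (fun m => (m.left : Spec (CommRingCat.of Ω) ⟶ ((EtCoh.bc f).obj V).left)) e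
  let m' : (Scheme.pointSmallEtale ξ).fiber.obj M' := CategoryTheory.Over.homMk
    (pullback.lift m.left mB hmb) ((Category.assoc _ _ _).symm.trans
      ((congrArg (· ≫ B.hom) (pullback.lift_snd _ _ _)).trans (CategoryTheory.Over.w (EtFound.liftPt f hξ v'))))
  have hm'ψ : (Scheme.pointSmallEtale ξ).fiber.map ψ' m' = EtFound.liftPt f hξ v' :=
    CategoryTheory.Over.OverMorphism.ext (pullback.lift_snd _ _ _)
  have hm'j : (Scheme.pointSmallEtale ξ).fiber.map j m' = m :=
    CategoryTheory.Over.OverMorphism.ext (pullback.lift_fst _ _ _)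
  refine ⟨(Scheme.pointSmallEtale η).toPresheafFiber V' v' ((sh f).obj F).obj (mkSec s hsp), ?_, fun ξ' hξ' hne => ?_⟩
  · refine (piStalk_germ f hξ F v' _).trans ?_
    rw [val_mkSec, ← hm'ψ]
    refine ((Scheme.pointSmallEtale ξ).toPresheafFiber_w_apply ψ' m' F.obj s).symm.trans ?_
    rw [hst]
    refine ((Scheme.pointSmallEtale ξ).toPresheafFiber_w_apply (j ≫ r) m' F.obj t).trans ?_
    rw [Functor.map_comp, ConcreteCategory.comp_apply, hm'j, hru]
    rfl
  · refine (piStalk_germ f hξ' F v' _).trans ?_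
    rw [val_mkSec]
    refine map_germ_zero_of_supp s _ fun hmem => hne ?_
    obtain ⟨y, hy⟩ := hs hmem
    obtain ⟨z, hz, -⟩ := EtFound.exists_lift_point ψ' (EtFound.liftPt f hξ' v') y hy
    have ez := congrArg (fun m => (m.left : Spec (CommRingCat.of Ω) ⟶ B.left) ≫ EtShriek.prV f V') hz
    let l : Spec (CommRingCat.of Ω) ⟶ M.left := ((Scheme.pointSmallEtale ξ').fiber.map j z).left
    have hl : l ≫ ψ.left ≫ EtShriek.prV f V = q := by
      refine (congrArg (l ≫ ·) rfl).trans ?_
      refine (Category.assoc _ _ _).symm.trans ?_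
      refine (congrArg (· ≫ EtShriek.prV f V) ((Category.assoc _ _ _).trans
        ((congrArg (_ ≫ ·) pullback.condition).trans (Category.assoc _ _ _).symm))).trans ?_
      refine (Category.assoc _ _ _).trans ((congrArg (_ ≫ ·) (EtCoh.isPullback_bc_map f i).w).trans ?_)
      refine (Category.assoc _ _ _).symm.trans ((congrArg (· ≫ i.left) ez).trans ?_)
      exact (congrArg (· ≫ i.left) (pullback.lift_fst _ _ _)).trans hqv
    have hlm := huniq l hl
    have h1 : l ≫ M.hom = ξ' := CategoryTheory.Over.w ((Scheme.pointSmallEtale ξ').fiber.map j z)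
    rw [hlm] at h1
    exact h1.symm.trans (CategoryTheory.Over.w m)

end Groth.Agent.EtShriekLib
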