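import Groth.Prelude.Def_EtShriek2
import Groth.Agent.EtFound.Stalk
import Groth.Agent.EtFound.GermSupp

/-! supports of sections of abelian etale sheaves -/

universe u

open CategoryTheory CategoryTheory.Limits AlgebraicGeometry Opposite

namespace Groth.Agent.EtShriekLib

set_option backward.isDefEq.respectTransparency.types false

variable {X : Scheme.{u}} {F G : EtCoh.Ab X} {U W : X.Etale}

theorem map_comp_apply {U V W : X.Etale} (g : W ⟶ V) (h : V ⟶ U) (s : EtCoh.sect F U) :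
    F.obj.map g.op (F.obj.map h.op s) = F.obj.map (g ≫ h).op s := by
  rw [op_comp, F.obj.map_comp]
  rfl

/-- outside the support there is a neighbourhood killing the section -/
theorem exists_of_notMem_supp {s : EtCoh.sect F U} {x : U.left} (hx : x ∉ EtShriek.sectSupp F U s) :
    ∃ (V : X.Etale) (g : V ⟶ U), (∃ v : V.left, g.left.base v = x) ∧ F.obj.map g.op s = 0 := by
  simp only [EtShriek.sectSupp, Set.mem_setOf_eq, not_forall] at hx
  obtain ⟨V, g, hv, h0⟩ := hx
  exact ⟨V, g, hv, not_not.1 h0⟩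

theorem notMem_supp_of {s : EtCoh.sect F U} {V : X.Etale} (g : V ⟶ U) (h : F.obj.map g.op s = 0)
    (v : V.left) : g.left.base v ∉ EtShriek.sectSupp F U s :=
  fun hx => hx V g ⟨v, rfl⟩ h

theorem isClosed_supp (s : EtCoh.sect F U) : IsClosed (EtShriek.sectSupp F U s) := by
  refine ⟨isOpen_iff_forall_mem_open.2 fun x hx => ?_⟩
  obtain ⟨V, g, ⟨v, hv⟩, h0⟩ := exists_of_notMem_supp hx
  have := EtFound.etale_left g
  refine ⟨Set.range g.left.base, ?_, g.left.isOpenMap.isOpen_range, v, hv⟩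
  rintro _ ⟨y, rfl⟩
  exact notMem_supp_of g h0 y

/-- fibre products in the small etale site have enough points -/
theorem exists_preimage {V₁ V₂ : X.Etale} (g₁ : V₁ ⟶ U) (g₂ : V₂ ⟶ U) (v₁ : V₁.left) (v₂ : V₂.left)
    (h : g₁.left.base v₁ = g₂.left.base v₂) :
    ∃ (P : X.Etale) (p₁ : P ⟶ V₁) (p₂ : P ⟶ V₂) (p : P.left),
      p₁ ≫ g₁ = p₂ ≫ g₂ ∧ p₁.left.base p = v₁ ∧ p₂.left.base p = v₂ := by
  obtain ⟨p, hp₁, hp₂⟩ := Scheme.Pullback.exists_preimage_pullback (f := g₁.left) (g := g₂.left) v₁ v₂ h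
  have := EtFound.etale_left g₁
  have := EtFound.etale_left g₂
  have : AlgebraicGeometry.Etale V₁.hom := V₁.prop
  refine ⟨Scheme.Etale.mk (pullback.fst g₁.left g₂.left ≫ V₁.hom),
    MorphismProperty.Over.homMk (pullback.fst g₁.left g₂.left) rfl,
    MorphismProperty.Over.homMk (pullback.snd g₁.left g₂.left) ?_, p, ?_, hp₁, hp₂⟩
  · exact (congrArg (pullback.snd g₁.left g₂.left ≫ ·) (MorphismProperty.Over.w g₂).symm).trans
      ((Category.assoc _ _ _).symm.trans ((congrArg (· ≫ U.hom) pullback.condition.symm).trans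
        ((Category.assoc _ _ _).trans (congrArg (pullback.fst g₁.left g₂.left ≫ ·)
          (MorphismProperty.Over.w g₁)))))
  · exact MorphismProperty.Over.Hom.ext pullback.condition

theorem supp_map (g : W ⟶ U) (s : EtCoh.sect F U) :
    EtShriek.sectSupp F W (F.obj.map g.op s) = g.left.base ⁻¹' EtShriek.sectSupp F U s := by
  ext w
  constructor
  · intro hw
    by_contra hn
    obtain ⟨V, k, ⟨v, hv⟩, h0⟩ := exists_of_notMem_supp hn
    obtain ⟨P, p₁, p₂, p, e, hp₁, -⟩ := exists_preimage g k w v hv.symm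
    refine hw P p₁ ⟨p, hp₁⟩ ?_
    rw [map_comp_apply, e, ← map_comp_apply, h0, map_zero]
  · intro hw V k hv h0
    obtain ⟨v, hv⟩ := hv
    rw [map_comp_apply] at h0
    exact hw V (k ≫ g) ⟨v, congrArg g.left.base hv⟩ h0

theorem supp_zero : EtShriek.sectSupp F U 0 = ∅ :=
  Set.eq_empty_of_forall_notMem fun x hx => hx U (𝟙 U) ⟨x, rfl⟩ (map_zero _)

theorem supp_neg (s : EtCoh.sect F U) : EtShriek.sectSupp F U (-s) = EtShriek.sectSupp F U s := by
  ext x
  simp only [EtShriek.sectSupp, Set.mem_setOf_eq, map_neg, ne_eq, neg_eq_zero]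

theorem supp_add (s t : EtCoh.sect F U) :
    EtShriek.sectSupp F U (s + t) ⊆ EtShriek.sectSupp F U s ∪ EtShriek.sectSupp F U t := by
  intro x hx
  by_contra hn
  rw [Set.mem_union, not_or] at hn
  obtain ⟨V₁, g₁, ⟨v₁, hv₁⟩, h₁⟩ := exists_of_notMem_supp hn.1
  obtain ⟨V₂, g₂, ⟨v₂, hv₂⟩, h₂⟩ := exists_of_notMem_supp hn.2
  obtain ⟨P, p₁, p₂, p, e, hp₁, -⟩ := exists_preimage g₁ g₂ v₁ v₂ (hv₁.trans hv₂.symm)
  refine hx P (p₁ ≫ g₁) ⟨p, (congrArg g₁.left.base hp₁).trans hv₁⟩ ?_
  rw [map_add, ← map_comp_apply, h₁, map_zero, zero_add, e, ← map_comp_apply, h₂, map_zero]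

theorem supp_sub (s t : EtCoh.sect F U) :
    EtShriek.sectSupp F U (s - t) ⊆ EtShriek.sectSupp F U s ∪ EtShriek.sectSupp F U t := by
  rw [sub_eq_add_neg]
  exact (supp_add s (-t)).trans (by rw [supp_neg])

/-- sheaves are separated -/
theorem eq_of_cover {R : Sieve U} (hR : R ∈ X.smallEtaleTopology U) {s t : EtCoh.sect F U}
    (h : ∀ (V : X.Etale) (g : V ⟶ U), R g → F.obj.map g.op s = F.obj.map g.op t) : s = t :=
  (((isSheaf_iff_isSheaf_of_type _ _).1 ((sheafCompose X.smallEtaleTopology (forget AddCommGrpCat.{u + 1})).obj F).property).isSeparated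
    _ hR).ext h

theorem eq_zero_of_supp_eq_empty {s : EtCoh.sect F U} (h : EtShriek.sectSupp F U s = ∅) : s = 0 := by
  let R : Sieve U :=
    { arrows := fun V g => F.obj.map g.op s = 0
      downward_closed := fun {V V' g} hg k => by
        change F.obj.map (k ≫ g).op s = 0
        rw [← map_comp_apply, hg, map_zero] }
  refine eq_of_cover (R := R) ((EtFound.mem_topology_iff R).2 fun x => ?_) fun V g hg => ?_
  · obtain ⟨V, g, ⟨v, hv⟩, h0⟩ := exists_of_notMem_supp (h.symm ▸ Set.notMem_empty x)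
    exact ⟨V, g, v, h0, hv⟩
  · rw [map_zero]
    exact hg

theorem supp_eq_empty_iff {s : EtCoh.sect F U} : EtShriek.sectSupp F U s = ∅ ↔ s = 0 :=
  ⟨eq_zero_of_supp_eq_empty, fun h => h ▸ supp_zero⟩

theorem mem_supp_iff {Ω : Type u} [Field Ω] [IsSepClosed Ω] {ξ : Spec (CommRingCat.of Ω) ⟶ X}
    (z : (Scheme.pointSmallEtale ξ).fiber.obj U) (s : EtCoh.sect F U) :
    EtFound.ptOf z ∈ EtShriek.sectSupp F U s ↔
      (Scheme.pointSmallEtale ξ).toPresheafFiber U z F.obj s ≠ 0 := by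
  constructor
  · intro hx h0
    rw [← map_zero ((Scheme.pointSmallEtale ξ).toPresheafFiber U z F.obj).hom] at h0
    obtain ⟨V, f, v, hv, hf⟩ := ((Scheme.pointSmallEtale ξ).toPresheafFiber_eq_iff' U z _ _).1 h0
    rw [map_zero] at hf
    subst hv
    exact hx V f ⟨EtFound.ptOf v, (EtFound.ptOf_map f v).symm⟩ hf
  · intro h V g hv h0
    obtain ⟨v, hv⟩ := hv
    obtain ⟨v', hv', -⟩ := EtFound.exists_lift_point g z v hv
    refine h ?_
    rw [← hv', ← (Scheme.pointSmallEtale ξ).toPresheafFiber_w_apply, h0, map_zero]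

theorem supp_eq_germSupp (s : EtCoh.sect F U) :
    EtShriek.sectSupp F U s = EtFound.germSupp F U s := by
  ext x
  obtain ⟨k, _, _, ξ, z, rfl⟩ := EtFound.exists_algClosed_point U x
  exact (mem_supp_iff z s).trans (EtFound.mem_germSupp_iff s z).symm

theorem supp_app_subset (a : F ⟶ G) (s : EtCoh.sect F U) :
    EtShriek.sectSupp G U (a.hom.app (op U) s) ⊆ EtShriek.sectSupp F U s :=
  EtShriek.sectSupp_map_subset a U s

theorem supp_app_of_injective (a : F ⟶ G) (h : ∀ V : X.Etale, Function.Injective (a.hom.app (op V)))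
    (s : EtCoh.sect F U) :
    EtShriek.sectSupp G U (a.hom.app (op U) s) = EtShriek.sectSupp F U s := by
  refine subset_antisymm (supp_app_subset a s) fun x hx V g hv h0 => hx V g hv (h V ?_)
  rw [map_zero]
  exact (ConcreteCategory.congr_hom (a.hom.naturality g.op) s).trans h0

end Groth.Agent.EtShriekLib
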